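import Cfsg.Agent.H9.GNJ
import Cfsg.Agent.H4.CD

/-!
Pushing up `PSL₂(F)`: minimal centrally large subgroups.
-/

set_option autoImplicit false
set_option linter.style.haveILetI false
set_option linter.unusedSectionVars false

namespace Cfsg.H9

open Subgroup
open Cfsg.H7 (cj mem_cj frat)
open Cfsg.H8 (MaxAb JT ZJ)
open scoped commutatorElement

universe u v

variable {X : Type u} [Group X] {p : ℕ}
variable {P T S O A E Q R R' : Subgroup X}

/-- centrally large subgroups of `S` -/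
def CLA (S R : Subgroup X) : Prop :=
  R ≤ S ∧ ∀ R' ≤ S, Nat.card R' * Nat.card (ctr R') ≤ Nat.card R * Nat.card (ctr R)

/-- minimal centrally large subgroups of `S` -/
def MCLA (S R : Subgroup X) : Prop := CLA S R ∧ ∀ R' ≤ R, CLA S R' → R' = R

/-- minimal centrally large subgroups of `S` with largest `Ω₁Z` -/
def MZ (p : ℕ) (S R : Subgroup X) : Prop := MCLA S R ∧
  ∀ R', MCLA S R' → Nat.card (omegaOneCenter p R') ≤ Nat.card (omegaOneCenter p R)

section map

variable {G : Type v} [Group G] {i : G →* X} (hi : Function.Injective i) {S R : Subgroup G}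
include hi

omit hi in
theorem exists_eq_map {R' : Subgroup X} (h : R' ≤ S.map i) : ∃ R : Subgroup G, R' = R.map i :=
  ⟨R'.comap i, (map_comap_eq_self (h.trans (map_le_range i S))).symm⟩

theorem card_map_inj (R : Subgroup G) : Nat.card (R.map i) = Nat.card R :=
  (Nat.card_congr (equivMapOfInjective R i hi).toEquiv).symm

theorem cla_map_iff : CLA (S.map i) (R.map i) ↔ CLA S R := by
  refine and_congr (map_le_map_iff_of_injective hi) ⟨fun h R' h1 => ?_, fun h R' h1 => ?_⟩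
  · simpa only [← map_ctr hi, card_map_inj hi] using h _ (map_mono h1)
  · obtain ⟨R', rfl⟩ := exists_eq_map h1
    simpa only [← map_ctr hi, card_map_inj hi] using h _ ((map_le_map_iff_of_injective hi).mp h1)

theorem mcla_map_iff : MCLA (S.map i) (R.map i) ↔ MCLA S R := by
  refine and_congr (cla_map_iff hi) ⟨fun h R' h1 h2 =>
    map_injective hi (h _ (map_mono h1) ((cla_map_iff hi).mpr h2)), fun h R' h1 h2 => ?_⟩
  obtain ⟨R', rfl⟩ := exists_eq_map h1
  rw [h R' ((map_le_map_iff_of_injective hi).mp h1) ((cla_map_iff hi).mp h2)]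

theorem map_omegaOneCenter (R : Subgroup G) :
    (omegaOneCenter p R).map i = omegaOneCenter p (R.map i) := by
  rw [← H7.omegaOneCenter_def, H7.map_omegaOne_of_injective hi, map_ctr hi, H7.omegaOneCenter_def]

theorem mz_map_iff : MZ p (S.map i) (R.map i) ↔ MZ p S R := by
  refine and_congr (mcla_map_iff hi) ⟨fun h R' h1 => ?_, fun h R' h1 => ?_⟩
  · simpa only [← map_omegaOneCenter hi, card_map_inj hi] using h _ ((mcla_map_iff hi).mpr h1)
  · obtain ⟨R', rfl⟩ := exists_eq_map h1.1.1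
    simpa only [← map_omegaOneCenter hi, card_map_inj hi] using h _ ((mcla_map_iff hi).mp h1)

theorem map_frat [Finite G] (R : Subgroup G) : (frat R).map i = frat (R.map i) :=
  le_antisymm (H7.map_frat_le i R) (H7.frat_map_le (by
    rw [(MonoidHom.ker_eq_bot_iff i).mpr hi, inf_bot_eq]; exact bot_le))

end map

theorem CLA.mono (h : CLA S R) (h1 : R ≤ O) (h2 : O ≤ S) : CLA O R :=
  ⟨h1, fun R' h3 => h.2 R' (h3.trans h2)⟩

theorem CLA.of_ge (h : CLA S R) (h1 : R' ≤ S)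
    (h2 : Nat.card R * Nat.card (ctr R) ≤ Nat.card R' * Nat.card (ctr R')) : CLA S R' :=
  ⟨h1, fun A h3 => (h.2 A h3).trans h2⟩

theorem CLA.of_le (h : CLA S R) (h1 : R ≤ O) (h2 : O ≤ S) (h3 : CLA O R') : CLA S R' :=
  h.of_ge (h3.1.trans h2) (h3.2 R h1)

theorem MCLA.cj (h : MCLA S R) (h1 : R ≤ O) (h2 : O ≤ S) {g : X} (hg : g ∈ normalizer (O : Set X)) :
    MCLA S (cj g R) := by
  have h3 : MCLA (H7.cj g O) (H7.cj g R) := (mcla_map_iff (MulAut.conj g).injective).mpr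
    ⟨h.1.mono h1 h2, fun R' h3 h4 => h.2 R' h3 (h.1.of_le h1 h2 h4)⟩
  rw [H7.cj_eq_of_mem_normalizer hg] at h3
  exact ⟨h.1.of_le h1 h2 h3.1, fun R' h4 h5 => h3.2 R' h4 (h5.mono (h4.trans h3.1.1) h2)⟩

theorem MZ.cj (h : MZ p S R) (h1 : R ≤ O) (h2 : O ≤ S) {g : X} (hg : g ∈ normalizer (O : Set X)) :
    MZ p S (cj g R) :=
  ⟨h.1.cj h1 h2 hg, fun R' h3 => by rw [← H7.cj_omegaOneCenter, H7.card_cj]; exact h.2 R' h3⟩

variable [Finite X]

theorem cj_frat (g : X) (R : Subgroup X) : cj g (frat R) = frat (cj g R) :=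
  map_frat (MulAut.conj g).injective R

theorem cla_top_iff : CLA ⊤ R ↔ H4.CL R := by
  rw [← H4.isCentrallyLarge_iff]
  refine Iff.trans ?_ (H4.eq_sSup_iff
    (f := fun R : Subgroup X => Nat.card R * Nat.card (center R))).symm
  simp only [H4.card_center_eq, CLA, le_top, true_and, true_imp_iff]

theorem mcla_top_iff : MCLA ⊤ R ↔ H4.MCL R := by simp only [MCLA, H4.MCL, cla_top_iff]

theorem mcla_subtype_iff {R : Subgroup S} : MCLA S (R.map S.subtype) ↔ H4.MCL R := by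
  rw [← mcla_top_iff, ← mcla_map_iff S.subtype_injective, H7.map_top_subtype]

theorem cla_subtype_iff {R : Subgroup S} : CLA S (R.map S.subtype) ↔ H4.CL R := by
  rw [← cla_top_iff, ← cla_map_iff S.subtype_injective, H7.map_top_subtype]

theorem mz_top_iff : MZ p ⊤ R ↔ IsMinimalCentrallyLarge R ∧
    Nat.card (omegaOneCenter p R) = maxOmegaCenterOfMinimalCL p X := by
  simp only [MZ, mcla_top_iff, ← H4.isMinimalCentrallyLarge_iff]
  have hb : BddAbove {k : ℕ | ∃ Q : Subgroup X, IsMinimalCentrallyLarge Q ∧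
      Nat.card (omegaOneCenter p Q) = k} :=
    ((Set.finite_range fun Q : Subgroup X => Nat.card (omegaOneCenter p Q)).subset
      (by rintro _ ⟨Q, -, e⟩; exact ⟨Q, e⟩)).bddAbove
  exact and_congr_right fun h => ⟨fun h1 => le_antisymm (le_csSup hb ⟨R, h, rfl⟩)
    (csSup_le ⟨_, R, h, rfl⟩ fun _ ⟨Q, h2, e⟩ => e ▸ h1 Q h2),
    fun h1 Q h2 => h1 ▸ le_csSup hb ⟨Q, h2, rfl⟩⟩

theorem exists_mz (p : ℕ) (X : Type u) [Group X] [Finite X] : ∃ R : Subgroup X, MZ p ⊤ R := by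
  obtain ⟨R, h1, h2⟩ := Set.exists_max_image {R : Subgroup X | MCLA ⊤ R}
    (fun R => Nat.card (omegaOneCenter p R)) (Set.toFinite _)
    (let ⟨Q, h⟩ := H4.exists_mcl (G := X); ⟨Q, mcla_top_iff.mpr h⟩)
  exact ⟨R, h1, h2⟩

omit [Finite X] in
theorem exists_eq_map_subtype (h : R ≤ S) : ∃ R' : Subgroup S, R = R'.map S.subtype :=
  ⟨R.subgroupOf S, (map_subgroupOf_eq_of_le h).symm⟩

theorem mcl_commutator_eq (h : H4.MCL Q) (h' : H4.MCL R) : ⁅Q, Q⁆ = ⁅R, R⁆ := by
  rw [h.commutator_eq h'.1, h'.commutator_eq h.1, inf_comm]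

theorem MCLA.commutator_eq (h : MCLA S Q) (h' : MCLA S R) : ⁅Q, Q⁆ = ⁅R, R⁆ := by
  obtain ⟨Q, rfl⟩ := exists_eq_map_subtype h.1.1
  obtain ⟨R, rfl⟩ := exists_eq_map_subtype h'.1.1
  rw [← map_commutator, ← map_commutator,
    mcl_commutator_eq (mcla_subtype_iff.mp h) (mcla_subtype_iff.mp h')]

theorem MCLA.of_card_le (h : MCLA S Q) (h' : CLA S R) (hc : Nat.card R ≤ Nat.card Q) : MCLA S R := by
  obtain ⟨Q, rfl⟩ := exists_eq_map_subtype h.1.1
  obtain ⟨R, rfl⟩ := exists_eq_map_subtype h'.1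
  exact mcla_subtype_iff.mpr ((mcla_subtype_iff.mp h).of_card_le (cla_subtype_iff.mp h')
    (by simpa only [H7.card_map_subtype] using hc))

theorem CLA.ctr_le (h : CLA S R) : ctr S ≤ R := by
  have h1 : ctr R ≤ ctr (R ⊔ ctr S) := le_inf (inf_le_left.trans le_sup_left) (by
    rw [H7.centralizer_sup]
    exact le_inf inf_le_right (le_centralizer_iff.mp (inf_le_right.trans
      (H7.centralizer_anti (inf_le_left.trans h.1)))))
  exact le_sup_right.trans (H7.eq_of_le_of_card_le le_sup_left (Nat.le_of_mul_le_mul_right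
    ((Nat.mul_le_mul_left _ (card_le_of_le h1)).trans (h.2 _ (sup_le h.1 inf_le_left)))
    Nat.card_pos)).ge

theorem map_mclJoin (S : Subgroup X) :
    (minimalCentrallyLargeJoin S).map S.subtype = sSup {R | MCLA S R} := by
  refine le_antisymm (map_le_iff_le_comap.mpr (sSup_le fun R hR => map_le_iff_le_comap.mp
    (le_sSup (mcla_subtype_iff.mpr (H4.isMinimalCentrallyLarge_iff.mp hR))))) (sSup_le fun R hR => ?_)
  obtain ⟨R, rfl⟩ := exists_eq_map_subtype hR.1.1
  exact map_mono (le_sSup (H4.isMinimalCentrallyLarge_iff.mpr (mcla_subtype_iff.mp hR)))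

theorem phiJoin_eq (p : ℕ) (X : Type u) [Group X] [Finite X] :
    frattiniOfMinimalCLJoin p X = ⨆ R : {R : Subgroup X // MZ p ⊤ R}, frat R.1 :=
  le_antisymm (iSup_le fun R => le_iSup (fun R : {R : Subgroup X // MZ p ⊤ R} => frat R.1)
    ⟨R.1, mz_top_iff.mpr R.2⟩) (iSup_le fun R => le_iSup_of_le ⟨R.1, mz_top_iff.mp R.2⟩ le_rfl)

theorem map_phiJoin {G : Type v} [Group G] [Finite G] {i : G →* X} (hi : Function.Injective i) :
    (frattiniOfMinimalCLJoin p G).map i = ⨆ R : {R // MZ p i.range R}, frat R.1 := by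
  rw [phiJoin_eq, Subgroup.map_iSup, MonoidHom.range_eq_map]
  refine le_antisymm (iSup_le fun R => le_iSup_of_le ⟨_, (mz_map_iff hi).mpr R.2⟩
    (map_frat hi _).le) (iSup_le fun ⟨R, hR⟩ => ?_)
  obtain ⟨R, rfl⟩ := exists_eq_map hR.1.1.1
  exact le_iSup_of_le ⟨R, (mz_map_iff hi).mp hR⟩ (map_frat hi _).ge

variable [Fact p.Prime]

theorem commutator_le_frat (h : IsPGroup p A) : ⁅A, A⁆ ≤ frat A :=
  ((H7.frat_le_iff_of_isPGroup h).mp le_rfl).1

theorem pow_mem_frat (h : IsPGroup p A) {x : X} (hx : x ∈ A) : x ^ p ∈ frat A :=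
  ((H7.frat_le_iff_of_isPGroup h).mp le_rfl).2 x hx

theorem frat_mono (h : IsPGroup p A) (h1 : E ≤ A) : frat E ≤ frat A :=
  (H7.frat_le_iff_of_isPGroup (h.to_le h1)).mpr
    ⟨(commutator_mono h1 h1).trans (commutator_le_frat h), fun _ hx => pow_mem_frat h (h1 hx)⟩

theorem frat_sup_le (h : IsPGroup p ↥(A ⊔ E)) (hc : E ≤ centralizer (A : Set X)) :
    frat (A ⊔ E) ≤ frat A ⊔ frat E := by
  refine (H7.frat_le_iff_of_isPGroup h).mpr ⟨(commutator_sup_sup_le hc le_rfl le_rfl le_rfl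
    le_rfl).trans (sup_le_sup (commutator_le_frat (h.to_le le_sup_left))
      (commutator_le_frat (h.to_le le_sup_right))), fun x hx => ?_⟩
  obtain ⟨a, ha, e, he, rfl⟩ := (H7.mem_sup_of_le_normalizer'
    (H7.le_normalizer_of_le_centralizer hc)).mp hx
  rw [Commute.mul_pow (hc he a ha)]
  exact mul_mem_sup (pow_mem_frat (h.to_le le_sup_left) ha) (pow_mem_frat (h.to_le le_sup_right) he)

theorem frat_eq_bot_iff (h : IsPGroup p A) : frat A = ⊥ ↔ IsElementaryAbelian p A := by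
  rw [eq_bot_iff, H7.frat_le_iff_of_isPGroup h, H7.isElementaryAbelian_iff, le_bot_iff,
    H7.commutator_eq_bot_iff']
  simp only [mem_bot]

theorem frat_sup_ea (h : IsPGroup p ↥(A ⊔ E)) (hc : E ≤ centralizer (A : Set X))
    (he : IsElementaryAbelian p E) : frat (A ⊔ E) = frat A :=
  le_antisymm ((frat_sup_le h hc).trans (sup_le le_rfl
    (((frat_eq_bot_iff (H7.ea_isPGroup he)).mpr he).le.trans bot_le))) (frat_mono h le_sup_left)

namespace Loc

variable (h : Loc p P) (hT : H7.IsSylowIn p T P)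
include h hT

theorem mcla_repl (hR : MCLA T R) (hQ : ¬ R ≤ pCoreOf p P) :
    ¬ ctr R ≤ pCoreOf p P ∧ MCLA T (R ⊓ pCoreOf p P ⊔ ctr (pCoreOf p P)) := by
  have m := h.fmV
  have h1 : R ⊓ pCoreOf p P ⊔ ctr (pCoreOf p P) ≤ pCoreOf p P := sup_le inf_le_right m.le
  have h2 : ctr R ⊓ pCoreOf p P ⊔ ctr (pCoreOf p P) ≤ ctr (R ⊓ pCoreOf p P ⊔ ctr (pCoreOf p P)) := by
    refine le_inf (sup_le_sup_right (inf_le_inf_right _ inf_le_left) _) (sup_le ?_
      (inf_le_right.trans (H7.centralizer_anti h1)))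
    rw [H7.centralizer_sup]
    exact inf_le_inf (inf_le_right.trans (H7.centralizer_anti inf_le_left)) m.cen
  have h3 := (h.card_sup_ge' m hT (B := ctr R ⊓ pCoreOf p P) inf_le_right ((le_inf inf_le_right
    ((inf_le_left.trans inf_le_left).trans inf_le_right)).trans
    (h.inf_cent' m hT hR.1.1 hQ))).trans (card_le_of_le h2)
  have h4 := hR.1.2 _ (h1.trans hT.pCoreOf_le)
  have h5 := card_le_qq hT hR.1.1
  have h6 : ¬ ctr R ≤ pCoreOf p P := fun hle => by
    rw [inf_eq_left.mpr hle] at h3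
    have h7 : R ⊓ pCoreOf p P = R ⊓ pCoreOf p P ⊔ ctr (pCoreOf p P) := by
      refine H7.eq_of_le_of_card_le le_sup_left (Nat.le_of_mul_le_mul_right ?_
        (Nat.mul_pos (zero_lt_one.trans h.one_lt_qq) (Nat.card_pos (α := ctr R))))
      refine ((Nat.mul_le_mul_left _ h3).trans h4).trans ?_
      rw [← mul_assoc, mul_comm _ (qq p P)]
      exact Nat.mul_le_mul_right _ h5
    rw [← h7] at h3
    refine hQ (inf_eq_left.mp (hR.2 _ inf_le_left (hR.1.of_ge (inf_le_left.trans hR.1.1) ?_)))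
    refine (Nat.mul_le_mul_right _ h5).trans ?_
    rw [mul_comm (qq p P), mul_assoc]
    exact Nat.mul_le_mul_left _ h3
  have h7 := (card_le_qq hT (inf_le_left.trans hR.1.1)).trans h3
  have h8 := h5.trans (h.card_sup_ge' m hT (B := R ⊓ pCoreOf p P) inf_le_right ((le_inf inf_le_right
    ((inf_le_left.trans inf_le_left).trans (le_centralizer_iff.mp inf_le_right))).trans
    (h.inf_cent' m hT (inf_le_left.trans hR.1.1) h6)))
  exact ⟨h6, hR.of_card_le (hR.1.of_ge (h1.trans hT.pCoreOf_le) (Nat.mul_le_mul h8 h7))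
    (Nat.le_of_mul_le_mul_right ((Nat.mul_le_mul_left _ h7).trans h4) Nat.card_pos)⟩

theorem mcla_pair (hQ : MCLA T Q) : ctr T ⊓ ⁅Q, Q⁆ ≤ centralizer (P : Set X) ∨
    P ≤ normalizer ((sSup {R | MCLA T R} : Subgroup X) : Set X) := by
  by_cases h1 : ∀ R, MCLA T R → R ≤ pCoreOf p P
  · refine Or.inr (H7.le_normalizer_iff_cj.mpr fun g hg => H7.cj_le_iff.mpr (sSup_le fun R hR =>
      H7.cj_le_iff.mp (le_sSup ?_)))
    exact hR.cj (h1 R hR) hT.pCoreOf_le (H7.le_normalizer_pCoreOf p P hg)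
  push Not at h1
  obtain ⟨R, hR, h1⟩ := h1
  obtain ⟨h2, h3⟩ := h.mcla_repl hT hR h1
  refine Or.inl ((inf_le_inf_right _ (ctr_le_ctr_Q h.char hT)).trans (h.central hT
    (H7.le_normalizer_inf h.fmV.n fun g hg => H7.mem_normalizer_iff_cj.mpr ?_) ?_))
  · rw [hQ.commutator_eq h3, H7.cj_commutator]
    exact (h3.cj (sup_le inf_le_right inf_le_left) hT.pCoreOf_le
      (H7.le_normalizer_pCoreOf p P hg)).commutator_eq h3
  · rw [hQ.commutator_eq hR]
    exact (inf_le_inf_left _ ((H7.commutator_le_left_of_le_normalizer le_normalizer).trans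
      (le_centralizer_iff.mp inf_le_right))).trans (h.inf_cent' h.fmV hT (inf_le_left.trans hR.1.1) h2)

theorem mz_repl (hR : MZ p T R) : ∃ R' ≤ pCoreOf p P, MZ p T R' ∧ frat R = frat R' := by
  by_cases hQ : R ≤ pCoreOf p P
  · exact ⟨R, hQ, hR, rfl⟩
  have m := h.fmV
  obtain ⟨-, h1⟩ := h.mcla_repl hT hR.1 hQ
  have h2 : R ⊓ pCoreOf p P ⊔ ctr (pCoreOf p P) ≤ pCoreOf p P := sup_le inf_le_right m.le
  have hR1 := hR.1.1.1
  have h3 : Zp p P ≤ ctr (pCoreOf p P) := le_inf (Zp_le P) (le_centralizer_iff.mp (Q_le_CZ P))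
  have h4 := H7.omegaOneCenter_le p R
  have h5 := H7.omegaOneCenter_le_centralizer p R
  have h6 : omegaOneCenter p R ⊓ pCoreOf p P ⊔ Zp p P ≤
      omegaOneCenter p (R ⊓ pCoreOf p P ⊔ ctr (pCoreOf p P)) := sup_le
    (H7.le_omegaOneCenter (le_sup_of_le_left (inf_le_inf_right _ h4)) (by
      rw [H7.centralizer_sup]
      exact inf_le_inf (h5.trans (H7.centralizer_anti inf_le_left)) m.cen)
      fun v hv => (H7.ea_omegaOneCenter p R).2 v hv.1)
    (H7.le_omegaOneCenter (le_sup_of_le_right h3) (h3.trans (inf_le_right.trans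
      (H7.centralizer_anti h2))) (ea_Zp P).2)
  have h7 := (h.card_sup_ge' h.fmZ hT (B := omegaOneCenter p R ⊓ pCoreOf p P) inf_le_right
    ((le_inf inf_le_right ((inf_le_left.trans inf_le_left).trans h5)).trans
    (h.inf_cent hT hR1 hQ))).trans (card_le_of_le h6)
  have h8 := sup_of_card_le hT (h4.trans hR1) (h7.trans (hR.2 _ h1))
  have h9 : R ⊓ pCoreOf p P ⊔ omegaOneCenter p R = R := by
    rw [sup_comm, inf_comm, ← H7.dedekind_left h4 (((h4.trans hR1).trans hT.le).trans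
      (H7.le_normalizer_pCoreOf p P)), h8, inf_eq_right.mpr hR1]
  have h10 : R ⊓ pCoreOf p P ⊔ ctr (pCoreOf p P) = R ⊓ pCoreOf p P ⊔ Zp p P :=
    le_antisymm (sup_le le_sup_left ((h.le_sup_Zp' m).trans (sup_le_sup_right (le_inf
      ((inf_le_inf (m.le.trans hT.pCoreOf_le) (H7.centralizer_anti hT.le)).trans hR.1.1.ctr_le)
      (inf_le_left.trans m.le)) _))) (sup_le_sup_left h3 _)
  refine ⟨_, h2, ⟨h1, fun R' h11 => (hR.2 R' h11).trans ((card_le_qq hT (h4.trans hR1)).trans h7)⟩, ?_⟩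
  rw [h10, frat_sup_ea (h10 ▸ (H7.isPGroup_pCoreOf p P).to_le h2) (h3.trans (inf_le_right.trans
    (H7.centralizer_anti inf_le_right))) (ea_Zp P), ← frat_sup_ea (h9.symm ▸ hT.isPGroup.to_le hR1)
    (h5.trans (H7.centralizer_anti inf_le_left)) (H7.ea_omegaOneCenter p R), h9]

theorem mz_normal : P ≤ normalizer ((⨆ R : {R // MZ p T R}, frat R.1 : Subgroup X) : Set X) := by
  refine H7.le_normalizer_iff_cj.mpr fun g hg => ?_
  rw [H7.cj_iSup]
  refine iSup_le fun R => ?_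
  obtain ⟨R', h1, h2, h3⟩ := h.mz_repl hT R.2
  rw [h3, cj_frat]
  exact le_iSup (fun R : {R // MZ p T R} => frat R.1)
    ⟨_, h2.cj h1 hT.pCoreOf_le (H7.le_normalizer_pCoreOf p P hg)⟩

end Loc

theorem mcl_commutator_characteristic (h : H4.MCL Q) : (⁅Q, Q⁆ : Subgroup X).Characteristic := by
  refine characteristic_iff_map_eq.mpr fun φ => ?_
  rw [map_commutator]
  refine mcl_commutator_eq (mcla_top_iff.mp ?_) h
  have := (mcla_map_iff (i := φ.toMonoidHom) φ.injective).mpr (mcla_top_iff.mpr h)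
  rwa [map_top_of_surjective _ φ.surjective] at this

theorem of_phiJoin_eq_bot (hX : IsPGroup p X) (h : frattiniOfMinimalCLJoin p X = ⊥) :
    ∃ R : Subgroup X, H4.MCL R ∧ IsElementaryAbelian p R :=
  let ⟨R, hR⟩ := exists_mz p X
  ⟨R, mcla_top_iff.mp hR.1, (frat_eq_bot_iff (hX.to_subgroup R)).mp (eq_bot_iff.mpr
    ((le_iSup (fun R : {R : Subgroup X // MZ p ⊤ R} => frat R.1) ⟨R, hR⟩).trans
      ((phiJoin_eq p X).symm.trans h).le))⟩

namespace RO

variable (h : RO p (⊤ : Subgroup X)) (hT : H7.IsSylowIn p T ⊤)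
  (hJ : T ≤ centralizer (ZJ 0 T : Set X))
include h hT hJ

theorem mcla_pair (hQ : MCLA T Q) : (ctr T ⊓ ⁅Q, Q⁆).Normal ∨ (sSup {R | MCLA T R}).Normal :=
  (h.cases' hT hJ).elim (fun h1 => Or.inl (normal_of_le_centralizer_top (inf_le_left.trans h1)))
    fun h1 => (h1.mcla_pair hT hQ).imp normal_of_le_centralizer_top H7.normal_of_le_normalizer_top

theorem mz_pair : (ctr T).Normal ∨ (⨆ R : {R // MZ p T R}, frat R.1).Normal :=
  (h.cases' hT hJ).imp normal_of_le_centralizer_top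
    fun h1 => H7.normal_of_le_normalizer_top (h1.mz_normal hT)

end RO

end Cfsg.H9
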