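import Cfsg.Agent.H9.GNTwo

/-!
The pushing up theorem of Glauberman and Niles.
-/

set_option autoImplicit false
set_option linter.style.haveILetI false
set_option linter.unusedSectionVars false

namespace Cfsg.H9

open Subgroup
open Cfsg.H7 (cj mem_cj frat)
open Cfsg.H8 (MaxAb JT ZJ)
open scoped commutatorElement

universe u v

variable {p : ℕ} [Fact p.Prime]

theorem GN.exists_core {X : Type u} [Group X] [Finite X] (T : Subgroup X) : ∃ M A, MaxAb 0 T A ∧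
    A ≤ M ∧ M ≤ T ∧ ∀ δ, GP p δ → H7.IsSylowIn p T δ → δ ≤ normalizer (M : Set X) := by
  by_cases h0 : ∃ δ, GP p δ ∧ H7.IsSylowIn p T δ
  swap
  · obtain ⟨A, hA⟩ := H8.exists_maxAb 0 T
    exact ⟨T, A, hA, hA.le, le_rfl, fun δ h1 h2 => absurd ⟨δ, h1, h2⟩ h0⟩
  obtain ⟨δ₀, g0, s0⟩ := h0
  let K := {μ // ∃ n, GN.PNear p n δ₀ μ}
  obtain ⟨W, hW⟩ : ∃ W, W = ⨆ μ : K, Zp p μ.1 := ⟨_, rfl⟩
  obtain ⟨A, ⟨μ₀, T₀, a1, a2⟩, hmax⟩ := Set.exists_max_image
    {A | ∃ (μ : K) (T' : Subgroup X), H7.IsSylowIn p T' μ.1 ∧ MaxAb 0 T' A}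
    (fun A => Nat.card ↥(A ⊓ W)) (Set.toFinite _)
    (let ⟨A, hA⟩ := H8.exists_maxAb 0 T; ⟨A, ⟨δ₀, 0, .refl 0 g0⟩, T, s0, hA⟩)
  have k1 : ∀ (μ : K) T', H7.IsSylowIn p T' μ.1 → MaxAb 0 T' A → A ≤ pCoreOf p μ.1 := by
    rintro ⟨μ, n, hμ⟩ T' h1 h2
    by_contra hn
    have h3 : W ≤ pCoreOf p μ := hW ▸ iSup_le fun ⟨ν, m, hν⟩ => GN.Z_le_Q (hμ.symm.trans hν)
    have h4 := H7.eq_of_le_of_card_le (le_inf (le_sup_of_le_left (inf_le_inf_left A h3)) inf_le_right)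
      (hmax _ ⟨⟨μ, n, hμ⟩, T', h1, (hμ.r.repl' hμ.r.fmZ h1 h2 hn).2⟩)
    exact hn (hμ.r.le_Q h1 h2.le (h2.comm.trans (H7.centralizer_anti ((le_inf le_sup_right
      (hW ▸ le_iSup (fun μ : K => Zp p μ.1) ⟨μ, n, hμ⟩)).trans (h4.ge.trans inf_le_left)))))
  have k2 : ∀ (μ : K) T', H7.IsSylowIn p T' μ.1 → MaxAb 0 T' A →
      ∀ T'', H7.IsSylowIn p T'' μ.1 → MaxAb 0 T'' A := fun μ T' h1 h2 T'' h3 => by
    obtain ⟨g, hg, rfl⟩ := h1.exists_cj h3
    exact maxAb_of_card (h2.cj g) ((k1 μ T' h1 h2).trans h3.pCoreOf_le) h2.comm (H7.card_cj g A).le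
  have k3 : ∀ n μ ν, GN.PNear p n μ ν → (∃ m, GN.PNear p m δ₀ μ) →
      (∀ T', H7.IsSylowIn p T' μ → MaxAb 0 T' A) → ∀ T', H7.IsSylowIn p T' ν → MaxAb 0 T' A := by
    intro n μ ν h
    induction h with
    | refl => exact fun _ h => h
    | cons o _ ih =>
      exact fun ⟨m, h1⟩ h2 => ih ⟨_, h1.snoc o⟩ (k2 ⟨_, _, h1.snoc o⟩ _ o.sr (h2 _ o.sl))
  have k4 : ∀ (μ : K) T', H7.IsSylowIn p T' μ.1 → MaxAb 0 T' A := fun ⟨μ, n, hμ⟩ =>
    let ⟨m, h⟩ := μ₀.2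
    k3 _ _ _ (h.symm.trans hμ) ⟨m, h⟩ (k2 μ₀ T₀ a1 a2)
  refine ⟨⨅ μ : K, pCoreOf p μ.1, A, k4 ⟨δ₀, 0, .refl 0 g0⟩ T s0, le_iInf fun μ => ?_,
    (iInf_le _ ⟨δ₀, 0, .refl 0 g0⟩).trans s0.pCoreOf_le, fun δ h1 h2 =>
      H7.le_normalizer_iff_cj.mpr fun g hg => le_iInf fun ⟨μ, n, hμ⟩ => ?_⟩
  · obtain ⟨T', h⟩ := H7.exists_isSylowIn p μ.1
    exact k1 μ T' h (k4 μ T' h)
  · rw [H7.cj_le_iff, H7.cj_pCoreOf]
    exact iInf_le (fun μ : K => pCoreOf p μ.1) ⟨_, _, .cons ⟨g0, h1, s0, h2⟩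
      (.cons ⟨h1, g0.cj g⁻¹, h2.cj_of_mem (inv_mem hg), s0.cj g⁻¹⟩ (hμ.cj g⁻¹))⟩

variable {S : Type u} [Group S] [Finite S]

theorem Small.comap {X : Type v} [Group X] {i : S →* X} (hi : Function.Injective i) {T : Subgroup S}
    {C : Subgroup X} (h : Small p (T.map i) C) : Small p T (C.comap i) := by
  simp only [Small, ← map_frat hi, ← map_commutator, map_le_iff_le_comap] at h
  exact ⟨h.1, h.2.1, h.2.2.1, fun h3 t ht => by
    rw [mem_comap, map_pow]; exact h.2.2.2 h3 _ (mem_map_of_mem i ht)⟩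

/-- one of the two subgroups is normal in every rank one extension -/
def Pair (p : ℕ) (S₁ S₂ : Subgroup S) : Prop :=
  ∀ (G : Type u) [Group G] [Finite G] (τ : S →* G), Function.Injective τ → RO p (⊤ : Subgroup G) →
    H7.IsSylowIn p τ.range ⊤ → (S₁.map τ).Normal ∨ (S₂.map τ).Normal

theorem exists_embedding (B : Set (Subgroup S)) (h : ∀ N ∈ B, ∃ (G : Type u) (_ : Group G)
    (_ : Finite G) (τ : S →* G), Function.Injective τ ∧ GP p (⊤ : Subgroup G) ∧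
      H7.IsSylowIn p τ.range ⊤ ∧ ¬ (N.map τ).Normal) :
    ∃ (X : Type u) (_ : Group X) (_ : Finite X) (ι : S →* X), Function.Injective ι ∧ ∀ N ∈ B,
      ∃ δ, GP p δ ∧ H7.IsSylowIn p ι.range δ ∧ ¬ δ ≤ normalizer (N.map ι : Set X) := by
  induction B, Set.toFinite B using Set.Finite.induction_on with
  | empty => exact ⟨S, _, ‹_›, MonoidHom.id S, fun _ _ => id, fun _ h => h.elim⟩
  | @insert N B _ _ ih =>
    obtain ⟨X, _, _, ι, h1, h2⟩ := ih fun N hN => h N (Or.inr hN)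
    obtain ⟨G, _, _, τ, h3, h4, h5, h6⟩ := h N (Or.inl rfl)
    obtain ⟨Y, _, _, i, j, hi, hj, h7, -⟩ := exists_finite_completion ι τ h1 h3
    have e : i.comp ι = j.comp τ := MonoidHom.ext h7
    refine ⟨Y, _, ‹_›, i.comp ι, hi.comp h1, ?_⟩
    rintro N' (rfl | hN)
    · refine ⟨_, h4.map hj, ?_, fun hle => h6 ?_⟩
      · rw [e, ← MonoidHom.map_range]; exact h5.map_of_injective hj
      · rw [e, ← map_map] at hle
        exact H7.normal_of_le_normalizer_top (le_normalizer_of_map hj hle)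
    · obtain ⟨δ, h8, h9, h10⟩ := h2 N' hN
      refine ⟨_, h8.map hi, ?_, fun hle => h10 ?_⟩
      · rw [← MonoidHom.map_range]; exact h9.map_of_injective hi
      · rw [← map_map] at hle
        exact le_normalizer_of_map hi hle

theorem map_ZJ_top {G : Type v} [Group G] [Finite G] {τ : S →* G} (hτ : Function.Injective τ) :
    (ZJ 0 ⊤).map τ = ZJ 0 τ.range := by
  rw [H8.map_ZJ (by rw [(MonoidHom.ker_eq_bot_iff τ).mpr hτ, inf_bot_eq]), MonoidHom.range_eq_map]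

theorem range_le_centralizer_ZJ {G : Type v} [Group G] [Finite G] {τ : S →* G}
    (hτ : Function.Injective τ) (hJ : ⊤ ≤ centralizer (ZJ 0 (⊤ : Subgroup S) : Set S)) :
    τ.range ≤ centralizer (ZJ 0 τ.range : Set G) := by
  rw [← map_ZJ_top hτ, MonoidHom.range_eq_map, map_le_centralizer_iff hτ]
  exact hJ

/-- the theorem of Glauberman and Niles -/
theorem exists_gn_pair (hJ : ⊤ ≤ centralizer (ZJ 0 (⊤ : Subgroup S) : Set S)) {S₁ : Subgroup S}
    [hc : S₁.Characteristic] (h1 : S₁ ≤ ctr ⊤) (h2 : ∀ C, Small p ⊤ C → S₁ ≤ C) :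
    ∃ S₂ A : Subgroup S, S₂.Characteristic ∧ MaxAb 0 ⊤ A ∧ A ≤ S₂ ∧ Pair p S₁ S₂ := by
  let B : Set (Subgroup S) := {N | ∀ (G : Type u) [Group G] [Finite G] (τ : S →* G),
    Function.Injective τ → RO p (⊤ : Subgroup G) → H7.IsSylowIn p τ.range ⊤ →
      ¬ (S₁.map τ).Normal → (N.map τ).Normal}
  obtain ⟨X, _, _, ι, h3, h4⟩ := exists_embedding (p := p) Bᶜ fun N hN => by
    simp only [B, Set.mem_compl_iff, Set.mem_ofPred_eq, not_forall] at hN
    obtain ⟨G, _, _, τ, b1, b2, b3, b4, b5⟩ := hN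
    have k : ∀ σ : S →* G, Function.Injective σ → S₁.map σ ≤ ctr σ.range := fun σ hσ => by
      rw [MonoidHom.range_eq_map, ← map_ctr hσ]; exact map_mono h1
    refine ⟨G, _, ‹_›, τ, b1, ⟨(b2.cases' b3 (range_le_centralizer_ZJ b1 hJ)).resolve_left
      fun h => b4 (normal_of_le_centralizer_top ((k τ b1).trans h)), fun T hT hs => b4 ?_⟩, b3, b5⟩
    obtain ⟨g, -, rfl⟩ := b3.exists_cj hT
    have b6 : Function.Injective ((MulAut.conj g).toMonoidHom.comp τ) :=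
      (MulAut.conj g).injective.comp b1
    have e : cj g τ.range = ((MulAut.conj g).toMonoidHom.comp τ).range := MonoidHom.map_range _ _
    have b7 := k _ b6
    rw [← e] at b7
    rw [e, MonoidHom.range_eq_map] at hs
    have b8 : (cj g (S₁.map τ)).Normal := normal_of_le_centralizer_top (by
      rw [← hT.sup_pResidualOf, H7.centralizer_sup, cj, map_map]
      exact le_inf (b7.trans inf_le_right) (map_le_iff_le_comap.mpr (h2 _ (hs.comap b6))))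
    rwa [← H7.cj_eq_of_normal g⁻¹ (cj g _), H7.cj_inv_cj] at b8
  obtain ⟨M, A, h5, h6, h7, h8⟩ := GN.exists_core (p := p) ι.range
  rw [MonoidHom.range_eq_map] at h5 h7
  obtain ⟨M, rfl⟩ := exists_eq_map h7
  obtain ⟨A, rfl⟩ := exists_eq_map h5.le
  refine ⟨sSup B, A, characteristic_iff_map_le.mpr fun φ => map_le_iff_le_comap.mpr
    (sSup_le fun N hN => map_le_iff_le_comap.mp (le_sSup fun G _ _ τ b1 b2 b3 b4 => ?_)),
    ⟨le_top, (map_le_centralizer_iff h3).mp h5.comm, fun a _ => pow_zero a, fun B _ b1 _ => ?_⟩,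
    ((map_le_map_iff_of_injective h3).mp h6).trans (le_sSup (by_contra fun hn => ?_)),
    fun G _ _ τ b1 b2 b3 => or_iff_not_imp_left.mpr fun b4 => ?_⟩
  · rw [map_map]
    refine hN G _ (b1.comp φ.injective) b2 ?_ ?_
    · rwa [← MonoidHom.map_range, MonoidHom.range_eq_top.mpr φ.surjective, ← MonoidHom.range_eq_map]
    · rwa [← map_map, characteristic_iff_map_eq.mp hc φ]
  · rw [← card_map_inj h3, ← card_map_inj h3 A]
    exact maxAb_card h5 (map_mono le_top) ((map_le_centralizer_iff h3).mpr b1)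
  · obtain ⟨δ, b1, b2, b3⟩ := h4 M hn
    exact b3 (h8 δ b1 b2)
  · rw [sSup_eq_iSup', Subgroup.map_iSup]
    exact H7.normal_of_le_normalizer_top (H7.le_normalizer_iSup fun N =>
      haveI := N.2 G τ b1 b2 b3 b4; le_normalizer_of_normal)

end Cfsg.H9
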