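import Cfsg.Agent.H9.PUOut
import Cfsg.Agent.H8.ZJ
import Cfsg.Agent.H7.Frat

/-!
Pushing up `PSL₂(F)` with large abelian subgroups: the local structure.
-/

set_option autoImplicit false
set_option linter.style.haveILetI false
set_option linter.unusedSectionVars false

namespace Cfsg.H9

open Subgroup Matrix
open Cfsg.H7 (cj mem_cj)
open Cfsg.H3 (U Lo)
open Cfsg.H8 (SecMap MaxAb JT ZJ)
open scoped commutatorElement MatrixGroups

universe u

variable {X : Type u} [Group X] {F : Type*} [Field F] {p : ℕ}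
variable {P T T₀ T₁ H V V₀ A B : Subgroup X} {Γ : Subgroup (X × SL(2, F))} {g h : X}
  {M N : SL(2, F)}

variable [Finite X] [Fact p.Prime] [Fintype F] [CharP F p]

namespace Frame

variable (f : Frame p P Γ T₀ T₁) (hV : V ≤ centralizer (V : Set X)) (hVp : IsPGroup p V)
  (hn : P ≤ normalizer (V : Set X))
  (hQ : pCoreOf p P ≤ centralizer (V : Set X))
include f hV hVp hn hQ

omit hVp in
theorem best' (hA : A ≤ T₀) (hb : Best V A) (hAQ : ¬ A ≤ pCoreOf p P) : Best V T₀ := by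
  let S : Set (Subgroup X) := {B | B ≤ T₀ ∧ ∀ B' ≤ T₀, meas V B' ≤ meas V B}
  have hS : S.Nonempty := by
    obtain ⟨B, h1, h2⟩ := Set.Finite.exists_maximalFor (meas V) {B | B ≤ T₀} (Set.toFinite _)
      ⟨⊥, show ⊥ ≤ T₀ from bot_le⟩
    exact ⟨B, h1, fun B' h3 => (le_total _ _).elim id (h2 h3)⟩
  obtain ⟨B, hB, hmax⟩ := (Set.toFinite S).exists_maximal hS
  have hQT := f.s₀.pCoreOf_le
  have eC : ∀ B : Subgroup X, V ⊓ centralizer ((B ⊔ pCoreOf p P : Subgroup X) : Set X) =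
      V ⊓ centralizer (B : Set X) := fun B => by
    rw [H7.centralizer_sup, ← inf_assoc]
    exact inf_eq_left.mpr (inf_le_left.trans (le_centralizer_iff.mp hQ))
  have h1 : pCoreOf p P ≤ B := le_sup_right.trans (hmax ⟨sup_le hB.1 hQT, fun B' h =>
    (hB.2 B' h).trans (by
      rw [meas, meas, eC]
      exact Nat.mul_le_mul_right _ (card_le_of_le le_sup_left))⟩ le_sup_left)
  have h2 : ¬ B ≤ pCoreOf p P := fun hle => by
    refine hAQ ((le_sup_left.trans (hmax (y := A ⊔ pCoreOf p P) ⟨sup_le hA hQT, fun B' h =>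
      (hB.2 B' h).trans ?_⟩ (hle.trans le_sup_right))).trans hle)
    have h3 := hb (A ⊓ pCoreOf p P) inf_le_left
    have h4 := H7.card_sup_mul_card_inf ((hA.trans f.s₀.le).trans (H7.le_normalizer_pCoreOf p P))
    rw [inf_eq_left.mpr (le_centralizer_iff.mp (inf_le_right.trans hQ))] at h3
    rw [le_antisymm hle h1, meas, meas, eC, inf_eq_left.mpr (le_centralizer_iff.mp hQ)]
    refine Nat.le_of_mul_le_mul_left ?_ (Nat.card_pos (α := ↥(A ⊓ pCoreOf p P)))
    calc _ = Nat.card (pCoreOf p P) * (Nat.card ↥(A ⊓ pCoreOf p P) * Nat.card V) := by ring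
      _ ≤ Nat.card (pCoreOf p P) * (Nat.card A * Nat.card ↥(V ⊓ centralizer (A : Set X))) :=
        Nat.mul_le_mul_left _ h3
      _ = _ := by rw [← mul_assoc, mul_comm (Nat.card _) (Nat.card A), ← h4]; ring
  have h3 : T₀ ≤ B := f.irr h1 hB.1 h2 fun g hg => H7.mem_normalizer_of_cj_le <| by
    have h4 : cj g B ≤ T₀ := H7.cj_le_of_le hg.2 hB.1
    refine le_sup_left.trans (hmax (y := cj g B ⊔ B) ⟨sup_le h4 hB.1, fun B' h =>
      (hB.2 B' h).trans ?_⟩ le_sup_right)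
    have h5 := meas_sup_inf hV (h4.trans
      (H7.le_normalizer_of_commutator_le hB.1 (f.comm_le.trans h1)))
    rw [meas_cj (hn hg.1)] at h5
    exact Nat.le_of_mul_le_mul_right (h5.trans (Nat.mul_le_mul_left _
      (hB.2 _ (inf_le_right.trans hB.1)))) (Nat.mul_pos Nat.card_pos Nat.card_pos)
  exact fun B' h => le_antisymm hB.1 h3 ▸ hB.2 B' h

theorem quad' (hb : Best V T₀) (hc : ¬ V ⊓ centralizer (T₀ : Set X) ≤ centralizer (P : Set X)) :
    ⁅V, T₀⁆ ≤ centralizer (T₀ : Set X) := by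
  have h1 : ⁅V, T₀⁆ ≤ V := H7.commutator_le_left_of_le_normalizer (f.s₀.le.trans hn)
  obtain ⟨x, hx, hxQ⟩ := f.swap.exists_not_mem_Q
  refine le_centralizer_iff.mp ((f.irr (B := T₀ ⊓ centralizer ((⁅V, T₀⁆ : Subgroup X) : Set X))
    (le_inf f.s₀.pCoreOf_le (hQ.trans (H7.centralizer_anti h1))) inf_le_left (fun hle => ?_)
    (H7.le_normalizer_inf inf_le_right (H7.le_normalizer_centralizer
      (H7.le_normalizer_commutator (inf_le_left.trans hn) inf_le_right)))).trans inf_le_right)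
  refine timmesfeld_not_le hV hVp (f.s₀.le.trans hn)
    (f.comm_le.trans hQ) ((H7.pResidualOf_eq_bot_of_isPGroup f.s₀.isPGroup).le.trans bot_le) hb
    (fun hle => hxQ (f.inf_le_Q hn hc ⟨hx, hle hx⟩)) (hle.trans hQ)

theorem ff' (hA : A ≤ T₀) (hb : Best V A) (hAQ : ¬ A ≤ pCoreOf p P)
    (hc : ¬ V ⊓ centralizer (T₀ : Set X) ≤ centralizer (P : Set X)) :
    QP p (Fintype.card F) P T₀ T₁ V (V ⊓ centralizer (P : Set X)) (V ⊓ centralizer (T₀ : Set X))
      (V ⊓ centralizer (T₁ : Set X)) := by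
  have hb' := f.best' hV hn hQ hA hb hAQ
  have q0 := f.quad' hV hVp hn hQ hb' hc
  obtain ⟨g, hg, e⟩ := f.s₀.exists_cj f.s₁
  have eV := H7.cj_eq_of_mem_normalizer (hn hg)
  have e1 : V ⊓ centralizer (T₁ : Set X) = cj g (V ⊓ centralizer (T₀ : Set X)) := by
    rw [H7.cj_inf, H7.cj_centralizer, e, eV]
  have q1 : ⁅V, T₁⁆ ≤ centralizer (T₁ : Set X) := by
    rw [← e, ← eV, ← H7.cj_commutator, ← H7.cj_centralizer]
    exact H7.cj_mono q0
  have e2 : V ⊓ centralizer (T₀ : Set X) ⊓ (V ⊓ centralizer (T₁ : Set X)) =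
      V ⊓ centralizer (P : Set X) := by
    rw [← inf_inf_distrib_left, ← H7.centralizer_sup, f.sup_eq]
  have c0 : ⁅V, T₀⁆ ≤ V := H7.commutator_le_left_of_le_normalizer (f.s₀.le.trans hn)
  have c1 : ⁅V, T₁⁆ ≤ V := H7.commutator_le_left_of_le_normalizer (f.s₁.le.trans hn)
  obtain ⟨b, hb1, hb2⟩ : ∃ b ∈ V ⊓ centralizer (T₁ : Set X), b ∉ centralizer (P : Set X) := by
    refine SetLike.not_le_iff_exists.mp fun hle => hc ?_
    rwa [e1, ← H7.cj_eq_of_mem hg, ← H7.cj_centralizer, H7.cj_le_cj_iff] at hle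
  have key : ∀ x ∈ T₀, x * b * x⁻¹ * b⁻¹ ∈ centralizer (P : Set X) → x ∈ pCoreOf p P :=
    fun x hx h1 => by
      by_contra hxQ
      refine hb2 (H7.le_centralizer_singleton_iff.mp (f.swap.gen2 hx hxQ
        (H7.le_centralizer_singleton_iff.mpr hb1.2) (H7.le_centralizer_singleton_iff.mpr ?_)))
      have h2 : x * b * x⁻¹ ∈ centralizer (cj x T₁ : Set X) := by
        rw [← H7.cj_centralizer]; exact H7.conj_mem_cj hb1.2
      exact inv_mem_iff.mp ((mul_mem_cancel_left h2).mp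
        (H7.centralizer_anti (f.s₁.cj_of_mem (f.s₀.le hx)).le h1))
  have i1 : Fintype.card F ≤ (V ⊓ centralizer (P : Set X)).relIndex (V ⊓ centralizer (T₀ : Set X)) := by
    rw [← f.relIndex_Q]
    refine relIndex_le_of_map (fun t => ⁅t, b⁆) (fun t ht =>
      le_inf c0 q0 (H7.commutator_mem_commutator' hb1.1 ht)) fun t ht t' ht' h1 =>
        key _ (mul_mem (inv_mem ht) ht') ?_
    have h2 : t * b * t⁻¹ ∈ V := (mem_normalizer_iff.mp (hn (f.s₀.le ht)) b).mp hb1.1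
    have h3 : t' * b * t'⁻¹ ∈ V := (mem_normalizer_iff.mp (hn (f.s₀.le ht')) b).mp hb1.1
    have h4 : ⁅t, b⁆⁻¹ * ⁅t', b⁆ = t' * b * t'⁻¹ * (t * b * t⁻¹)⁻¹ := by
      have := hV (mul_mem (inv_mem h2) h3) _ hb1.1
      calc ⁅t, b⁆⁻¹ * ⁅t', b⁆ = b * ((t * b * t⁻¹)⁻¹ * (t' * b * t'⁻¹)) * b⁻¹ := by
            simp only [commutatorElement_def]; group
        _ = _ := by rw [this, mul_inv_cancel_right]; exact hV h3 _ (inv_mem h2)
    have h5 := (mem_normalizer_iff.mp (H7.le_normalizer_centralizer le_normalizer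
      (inv_mem (f.s₀.le ht))) _).mp (h4 ▸ h1.2)
    convert h5 using 1
    group
  have i2 := hb' _ f.s₀.pCoreOf_le
  rw [inf_eq_left.mpr (le_centralizer_iff.mp hQ), ← H7.relIndex_mul_card_of_le f.s₀.pCoreOf_le,
    f.relIndex_Q, mul_comm (Fintype.card F), mul_assoc] at i2
  have i3 := Nat.le_of_mul_le_mul_left i2 Nat.card_pos
  have i4 := H7.card_sup_mul_card_inf (H := V ⊓ centralizer (T₀ : Set X))
    (N := V ⊓ centralizer (T₁ : Set X)) (H7.le_normalizer_of_le_centralizer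
      (inf_le_left.trans (hV.trans (H7.centralizer_anti inf_le_left))))
  have i5 : Nat.card ↥(V ⊓ centralizer (T₁ : Set X)) = Nat.card ↥(V ⊓ centralizer (T₀ : Set X)) := by
    rw [e1, H7.card_cj]
  have l0 : V ⊓ centralizer (P : Set X) ≤ V ⊓ centralizer (T₀ : Set X) := e2.ge.trans inf_le_left
  have l1 : V ⊓ centralizer (P : Set X) ≤ V ⊓ centralizer (T₁ : Set X) := e2.ge.trans inf_le_right
  have i6 := H7.relIndex_mul_card_of_le l0
  have i7 := H7.relIndex_mul_card_of_le l1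
  have i8 : Nat.card ↥(V ⊓ centralizer (T₀ : Set X) ⊔ V ⊓ centralizer (T₁ : Set X)) ≤ Nat.card V :=
    card_le_of_le (sup_le inf_le_left inf_le_left)
  rw [e2, i5] at i4
  rw [i5, ← i6] at i7
  have i9 := Nat.eq_of_mul_eq_mul_right Nat.card_pos i7
  have i10 : Nat.card ↥(V ⊓ centralizer (T₀ : Set X) ⊔ V ⊓ centralizer (T₁ : Set X)) =
      (V ⊓ centralizer (P : Set X)).relIndex (V ⊓ centralizer (T₀ : Set X)) *
        Nat.card ↥(V ⊓ centralizer (T₀ : Set X)) :=
    Nat.eq_of_mul_eq_mul_right Nat.card_pos (by rw [i4]; nth_rw 2 [← i6]; ring)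
  have i11 : (V ⊓ centralizer (P : Set X)).relIndex (V ⊓ centralizer (T₀ : Set X)) ≤
      Fintype.card F := Nat.le_of_mul_le_mul_right ((i10.ge.trans i8).trans i3) Nat.card_pos
  obtain ⟨x, hx, hxQ⟩ := f.swap.exists_not_mem_Q
  exact ⟨hn, H7.le_normalizer_inf hn (H7.le_normalizer_centralizer le_normalizer), l0, l1,
    H7.eq_of_le_of_card_le (sup_le inf_le_left inf_le_left)
      (i3.trans ((Nat.mul_le_mul_right _ i1).trans i10.ge)), e2.le,
    H7.commutator_le_of_le_centralizer hV, H7.commutator_le_of_le_centralizer hQ, le_inf c0 q0,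
    H7.commutator_le_of_le_centralizer (le_centralizer_iff.mp inf_le_right), le_inf c1 q1,
    H7.commutator_le_of_le_centralizer (le_centralizer_iff.mp inf_le_right), i11, i9.le.trans i11,
    fun hle => hxQ (key x hx (hle (H7.commutator_mem_commutator' hb1.1 (f.s₀.le hx))).2)⟩

end Frame

end Cfsg.H9
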