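import Cfsg.Agent.H9.GNGeo

/-!
Pushing up `PSL₂(F)` simultaneously in several groups: the critical distance is at most two.
-/

set_option autoImplicit false
set_option linter.style.haveILetI false
set_option linter.unusedSectionVars false

namespace Cfsg.H9.GN

open Subgroup
open Cfsg.H7 (cj mem_cj frat)
open Cfsg.H8 (MaxAb JT ZJ)
open scoped commutatorElement

universe u

variable {X : Type u} [Group X] {p n : ℕ} [Finite X] [Fact p.Prime]
variable {T T₀ T' Tν α β β' γ δ μ ν H : Subgroup X}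

theorem commutatorElement_mul_left_of {x e y : X} (h : e * y = y * e) : ⁅x * e, y⁆ = ⁅x, y⁆ := by
  simp only [commutatorElement_def, _root_.mul_inv_rev]
  calc x * e * y * (e⁻¹ * x⁻¹) * y⁻¹ = x * (e * y) * e⁻¹ * x⁻¹ * y⁻¹ := by group
    _ = _ := by rw [h]; group

theorem commutatorElement_mul_right_of {x v c : X} (h : c * x = x * c) : ⁅x, v * c⁆ = ⁅x, v⁆ := by
  have : c * x⁻¹ = x⁻¹ * c := (Commute.inv_right h)
  simp only [commutatorElement_def, _root_.mul_inv_rev]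
  calc x * (v * c) * x⁻¹ * (c⁻¹ * v⁻¹) = x * v * (c * x⁻¹) * c⁻¹ * v⁻¹ := by group
    _ = _ := by rw [this]; group

theorem exists_H (o : On p α T γ) (hs : pCoreOf p γ ⊔ pCoreOf p α = T) :
    ∃ g, g ∈ pCoreOf p γ ⊔ cj g (pCoreOf p γ) ∧ g ∈ α ∧
      pCoreOf p γ ⊔ cj g (pCoreOf p γ) ⊔ pCoreOf p α = α := by
  obtain ⟨g, hg, e⟩ := o.l.exists_opp o.sl
  have nQ := H7.le_normalizer_pCoreOf p α
  have h1 : pCoreOf p γ ⊔ cj g (pCoreOf p γ) ⊔ pCoreOf p α = α := by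
    rw [sup_sup_distrib_right, hs, ← H7.cj_eq_of_mem_normalizer (nQ hg), ← H7.cj_sup, hs, e]
  obtain ⟨x, hx, q, hq, rfl⟩ := (H7.mem_sup_of_le_normalizer
    ((le_sup_left.trans h1.le).trans nQ)).mp (h1.ge hg)
  rw [H7.cj_mul, H7.cj_eq_of_mem_normalizer (o.symm.nQ (o.sl.pCoreOf_le hq))] at h1 hx
  exact ⟨x, hx, h1.le (mem_sup_left hx), h1⟩

theorem CD.tilde (d : CD X p (n + 3)) (h1 : On p α T γ) (h2 : PNear p (n + 2) γ β)
    (hc : ¬ Zp p β ≤ pCoreOf p α) (hn : α ≤ normalizer ((Zp p γ ⊔ Zp p α : Subgroup X) : Set X))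
    (h3 : On p ν Tν γ) (h4 : ¬ Zp p ν ≤ Zp p γ ⊔ Zp p α) :
    Zp p α ⊓ ⁅Zp p ν, pCoreOf p γ⁆ ≤ centralizer (α : Set X) := by
  obtain ⟨T', β₁, a1, a2⟩ := h2.last
  obtain ⟨T'', β₂, a3, a4⟩ := a2.last
  obtain ⟨T''', β₃, a5, a6⟩ := (PNear.cons h1 a4).last
  have c := d.crit h1 h2 a1 (.cons h1 a2) hc
  have nD := h1.norm_inf hn
  have bγ : Zp p β ≤ pCoreOf p γ := d.min h2.symm (by omega)
  have e1 := c.inf h1.sr.pCoreOf_le bγ
  obtain ⟨g, gH, hg, e2⟩ := exists_H h1 (le_antisymm (sup_le h1.sr.pCoreOf_le h1.sl.pCoreOf_le)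
    (c.sup.ge.trans (sup_le_sup_right bγ _)))
  obtain ⟨H, hH⟩ : ∃ H, H = pCoreOf p γ ⊔ cj g (pCoreOf p γ) := ⟨_, rfl⟩
  rw [← hH] at gH e2
  have Hα := le_sup_left.trans e2.le
  have Dg : pCoreOf p α ⊓ pCoreOf p γ ≤ cj g (pCoreOf p γ) :=
    (H7.cj_eq_of_mem_normalizer (nD hg)).ge.trans (H7.cj_mono inf_le_right)
  have eH : H ≤ Zp p β ⊔ cj g (pCoreOf p γ) :=
    hH ▸ sup_le (e1.ge.trans (sup_le_sup_left Dg _)) le_sup_right
  have hC : Zp p α ⊓ centralizer (H : Set X) ≤ centralizer (α : Set X) := by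
    conv_rhs => rw [← e2, H7.centralizer_sup]
    exact le_inf inf_le_right (inf_le_left.trans (le_centralizer_iff.mp (Q_le_CZ α)))
  refine (inf_le_inf_left _ ?_).trans hC
  have b1 := h3.cj g
  have b2 := h1.symm.cj g
  rw [H7.cj_eq_of_mem hg] at b2
  have Qg : cj g (pCoreOf p γ) ≤ cj g Tν := H7.cj_mono h3.sr.pCoreOf_le
  have qd := (b1.l.quad b1.sl).trans (H7.centralizer_anti Qg)
  have nCH := H7.le_normalizer_centralizer (le_normalizer (H := H))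
  have key : ∀ l Tl, GP p l → H7.IsSylowIn p Tl l → Zp p (cj g ν) ≤ Tl →
      ¬ Zp p (cj g ν) ≤ pCoreOf p l → Zp p l ≤ pCoreOf p α ⊓ pCoreOf p γ → Zp p l ≤ pCoreOf p β →
      ⁅Zp p ν, pCoreOf p γ⁆ ≤ centralizer (H : Set X) := fun l Tl k1 k2 k3 k4 k5 k6 => by
    have c' : Crit p l Tl (cj g ν) (cj g Tν) := ⟨k1, b1.l, k2, b1.sl, k3, (k5.trans Dg).trans Qg, k4⟩
    rw [← H7.cj_le_cj_iff (g := g), H7.cj_eq_of_mem_normalizer (nCH gH), H7.cj_commutator, cj_Zp]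
    refine (commutator_mono le_rfl Qg).trans (le_trans ?_ (H7.centralizer_anti eH))
    rw [H7.centralizer_sup]
    exact le_inf (c'.symm.comm_le.trans (k6.trans (Q_le_CZ β))) qd
  by_cases k1 : Zp p (cj g ν) ≤ pCoreOf p β₂
  swap
  · exact key β₂ T''' a5.l a5.sl ((d.min (.cons b1 (.cons b2 a6)) (by omega)).trans a5.sr.pCoreOf_le)
      k1 (le_inf (d.min (PNear.cons h1 a4).symm (by omega)) (d.min a4.symm (by omega)))
      (d.min (.cons a3.symm a1.symm.near) (by omega))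
  by_cases k2 : Zp p (cj g ν) ≤ pCoreOf p β₁
  swap
  · exact key β₁ T'' a3.l a3.sl (k1.trans a3.sr.pCoreOf_le) k2
      (le_inf (d.min (PNear.cons h1 a2).symm (by omega)) (d.min a2.symm (by omega))) (d.adj a1.symm)
  have νγ := d.adj h3
  have αD : Zp p α ≤ pCoreOf p α ⊓ pCoreOf p γ := le_inf (Zp_le α) (d.adj h1)
  obtain ⟨M, hM⟩ : ∃ M, M = Zp p (cj g ν) ⊔ Zp p α := ⟨_, rfl⟩
  have nM : H ≤ normalizer (M : Set X) := eH.trans (sup_le (H7.le_normalizer_of_commutator_le le_rfl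
    (hM ▸ H7.sup_commutator_le (H7.le_normalizer_of_le le_sup_left)
      (H7.le_normalizer_of_le le_sup_right) (le_sup_of_le_right (by
        rw [commutator_comm]
        exact (commutator_mono le_rfl (k2.trans a1.sr.pCoreOf_le)).trans c.symm.comm_le))
      (le_sup_of_le_right (H7.commutator_le_left_of_le_normalizer (c.zl.trans h1.nZ)))))
    (hM ▸ H7.le_normalizer_sup (Qg.trans b1.nZ)
      ((le_sup_right.trans (hH.ge.trans Hα)).trans (nZp α))))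
  have w1 : ⁅M, pCoreOf p α ⊓ pCoreOf p γ⁆ ≤ centralizer (cj g (pCoreOf p γ) : Set X) := by
    have k := H7.le_normalizer_centralizer (le_normalizer (H := cj g (pCoreOf p γ)))
    exact hM ▸ H7.sup_commutator_le (((cj_Zp g ν).ge.trans (H7.cj_mono νγ)).trans k)
      ((αD.trans Dg).trans k) ((commutator_mono le_rfl (Dg.trans Qg)).trans qd)
      (H7.commutator_le_of_le_centralizer (inf_le_left.trans (Q_le_CZ α)))
  have w2 : ⁅Zp p ν, pCoreOf p α ⊓ pCoreOf p γ⁆ ≤ centralizer (H : Set X) := by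
    refine (commutator_mono (show Zp p ν ≤ M from ?_) le_rfl).trans ?_
    · rw [← H7.cj_le_cj_iff (g := g), H7.cj_eq_of_mem_normalizer (nM gH), cj_Zp, hM]
      exact le_sup_left
    · rw [hH, H7.centralizer_sup]
      refine le_inf ?_ w1
      rwa [← H7.cj_le_cj_iff (g := g), H7.cj_centralizer, H7.cj_eq_of_mem_normalizer
        (H7.le_normalizer_commutator nM (Hα.trans nD) gH)]
  by_cases k3 : Zp p β ≤ pCoreOf p ν
  · have k := (le_sup_left.trans hH.ge).trans nCH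
    exact (commutator_mono le_rfl e1.ge).trans (H7.commutator_sup_le (bγ.trans k)
      (inf_le_right.trans k) (H7.commutator_le_of_le_centralizer (k3.trans (Q_le_CZ ν))) w2)
  have c₂ := d.crit h3 h2 a1 (.cons h3 a2) k3
  have dec : ∀ y ∈ Zp p ν, ∃ v ∈ Zp p α, ∃ e ∈ pCoreOf p β, v * e = y := fun y hy =>
    (H7.mem_sup_of_le_normalizer (c.zr.trans a1.nQ)).mp (c.symm.sup.ge (c₂.zr hy))
  have w3 : pCoreOf p α ⊓ pCoreOf p γ ≤ pCoreOf p ν := fun t ht => by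
    obtain ⟨x, hx, e, he, rfl⟩ := (H7.mem_sup_of_le_normalizer (c₂.zl.trans h3.nQ)).mp
      (c₂.sup.ge (h3.sr.pCoreOf_le ht.2))
    by_contra hx'
    refine h3.l.not_le_C' h3.l.fmZ h3.sl fun y hy => ?_
    obtain ⟨v, hv, f, hf, rfl⟩ := dec y hy
    have k4 := w2 (H7.commutator_mem_commutator' hy ht)
    have k5 := commutatorElement_mul_right_of (v := v) (Q_le_CZ β hf x hx).symm
    rw [commutatorElement_mul_left_of (Q_le_CZ ν he _ hy).symm, k5] at k4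
    refine h3.l.cent h3.sl (c₂.zl hx) (fun h => hx' (mul_mem h he)) hy ?_
    rw [k5, commutatorElement_eq_one_iff_mul_comm.mpr ?_]
    · exact one_mem _
    by_cases k6 : x ∈ pCoreOf p α
    · exact (Q_le_CZ α k6 v hv).symm
    · exact h1.l.cent h1.sl (c.zl hx) k6 hv (hC ⟨H8.commutatorElement_mem_of_normalizer
        (h1.nZ (c.zl hx)) hv, k4⟩) x (c.zl hx)
  refine (h4 fun y hy => ?_).elim
  obtain ⟨v, hv, f, hf, rfl⟩ := dec y hy
  have k4 := Q_le_CZ ν (w3 (αD hv)) _ hy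
  rw [sup_comm]
  refine mul_mem_sup hv (H7.mem_omegaOneCenter_iff.mpr ⟨(mul_mem_cancel_left (d.adj h1 hv)).mp (νγ hy),
    ?_, ?_⟩)
  · rw [← e1, H7.centralizer_sup]
    exact ⟨Q_le_CZ β hf, (mul_mem_cancel_left (H7.centralizer_anti inf_le_left
      (le_centralizer_iff.mp (Q_le_CZ α) hv))).mp
      (H7.centralizer_anti w3 (le_centralizer_iff.mp (Q_le_CZ ν) hy))⟩
  · have k5 := (ea_Zp ν).2 _ hy
    rwa [Commute.mul_pow (mul_left_cancel (a := v) (by rw [← k4, mul_assoc])),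
      (ea_Zp α).2 v hv, one_mul] at k5

theorem CD.good_far (d : CD X p (n + 3)) (h1 : On p α T γ) (h2 : PNear p (n + 2) γ β)
    (hc : ¬ Zp p β ≤ pCoreOf p α) : Good p α T γ := by
  refine ⟨h1, fun hn => ?_⟩
  obtain ⟨T₁, s1, e1⟩ := h1.r.exists_gen h1.sr
  obtain ⟨A, hA, hAQ⟩ := h1.r.big T₁ s1
  obtain ⟨a, ha, haQ⟩ := SetLike.not_le_iff_exists.mp hAQ
  have aγ := s1.le (hA.le ha)
  have h3 := h1.cj a
  rw [H7.cj_eq_of_mem aγ] at h3
  have nγ := H7.cj_eq_of_mem_normalizer (nZp (p := p) γ aγ)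
  obtain ⟨U, hU⟩ : ∃ U, U = Zp p γ ⊔ Zp p α := ⟨_, rfl⟩
  have k0 : a ∉ normalizer (U : Set X) := fun h => d.not_norm h1 h2 hc
    (h1.r.gen h1.sr s1 e1 (hA.le ha) haQ (H7.le_normalizer_sup h1.symm.nZ h1.nZ) (hU ▸ h))
  have k1 : ¬ Zp p (cj a α) ≤ U := fun h => k0 (H7.mem_normalizer_of_cj_le (by
    rw [hU, H7.cj_sup, nγ, cj_Zp, ← hU]
    exact sup_le (hU ▸ le_sup_left) h))
  have k2 := d.tilde h1 h2 hc hn h3 (hU ▸ k1)
  have αγ := d.adj h1
  have γα := d.adj h1.symm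
  have UQ : U ≤ pCoreOf p α ⊓ pCoreOf p γ :=
    hU ▸ sup_le (le_inf γα (Zp_le γ)) (le_inf (Zp_le α) αγ)
  have QU : pCoreOf p α ⊓ pCoreOf p γ ≤ centralizer (U : Set X) := by
    rw [hU, H7.centralizer_sup, inf_comm]
    exact inf_le_inf (Q_le_CZ γ) (Q_le_CZ α)
  have cnt : ∀ B M : Subgroup X, B ≤ A ⊓ pCoreOf p γ → M ≤ pCoreOf p γ →
      M ≤ centralizer (M : Set X) → B ≤ centralizer (M : Set X) → ∀ k, Nat.card ↥(A ⊓ pCoreOf p γ) ≤
      k * Nat.card B → Nat.card M ≤ k * Nat.card ↥(B ⊓ M ⊔ Zp p γ) := fun B M b1 b2 b3 b4 k b5 => by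
    have b6 := maxAb_card hA ((sup_le (b1.trans inf_le_right) b2).trans s1.pCoreOf_le)
      (sup_comm_of (comm_mono hA.comm (b1.trans inf_le_left)) b3 b4)
    have b7 := h1.r.card_sup_ge' h1.r.fmZ s1 (B := B ⊓ M) (inf_le_right.trans b2)
      ((le_inf inf_le_right (((inf_le_left.trans inf_le_left).trans (b1.trans inf_le_left)).trans
        hA.comm)).trans (h1.r.inf_cent s1 hA.le hAQ))
    refine Nat.le_of_mul_le_mul_left ?_ (Nat.card_pos (α := B))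
    rw [← H7.card_sup_mul_card_inf (H7.le_normalizer_of_le_centralizer b4)]
    calc _ ≤ qq p γ * (k * Nat.card B) * Nat.card ↥(B ⊓ M) := Nat.mul_le_mul_right _
          ((b6.trans (card_le_qq s1 hA.le)).trans (Nat.mul_le_mul_left _ b5))
      _ = Nat.card B * (k * (qq p γ * Nat.card ↥(B ⊓ M))) := by ring
      _ ≤ _ := Nat.mul_le_mul_left _ (Nat.mul_le_mul_left _ b7)
  by_cases k3 : A ⊓ pCoreOf p γ ≤ pCoreOf p α
  · have k4 := cnt _ U le_rfl (UQ.trans inf_le_right) (UQ.trans QU)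
      ((le_inf k3 inf_le_right).trans QU) 1 (one_mul _).ge
    rw [one_mul] at k4
    refine k0 ?_
    rw [← H7.eq_of_le_of_card_le (sup_le inf_le_right (hU ▸ le_sup_left)) k4]
    exact H7.le_normalizer_sup (H7.le_normalizer_of_le_centralizer (hA.comm.trans
      (H7.centralizer_anti (inf_le_left.trans inf_le_left)))) ((hA.le.trans s1.le).trans (nZp γ)) ha
  obtain ⟨x, hx, hx'⟩ := SetLike.not_le_iff_exists.mp k3
  have ea : ∀ y ∈ A, a * y * a⁻¹ = y := fun y hy => by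
    rw [hA.comm hy a ha, mul_inv_cancel_right]
  have νQ : Zp p (cj a α) ≤ pCoreOf p α ⊓ pCoreOf p γ :=
    le_inf (d.min (.cons h3 h1.symm.near) (by omega)) (d.adj h3)
  have k4 := cnt (A ⊓ pCoreOf p γ ⊓ pCoreOf p α) (Zp p (cj a α) ⊔ U) inf_le_left
    ((sup_le νQ UQ).trans inf_le_right)
    (sup_comm_of (H7.ea_le_centralizer (ea_Zp _)) (UQ.trans QU) (νQ.trans QU)) (by
      rw [H7.centralizer_sup]
      refine le_inf (le_trans (fun y hy => ?_) (Q_le_CZ _))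
        ((le_inf inf_le_right (inf_le_left.trans inf_le_right)).trans QU)
      rw [← H7.cj_pCoreOf, ← ea y hy.1.1]
      exact H7.conj_mem_cj hy.2) _ (card_le_qq h1.sl (inf_le_right.trans h1.sr.pCoreOf_le))
  have k5 : A ⊓ pCoreOf p γ ⊓ pCoreOf p α ⊓ (Zp p (cj a α) ⊔ U) ≤ Zp p γ := by
    rintro m ⟨m1, m2⟩
    obtain ⟨y, hy, u, hu, rfl⟩ := (H7.mem_sup_of_le_normalizer
      (H7.le_normalizer_of_le_centralizer (νQ.trans QU))).mp m2
    rw [hU] at hu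
    obtain ⟨w, hw, v, hv, rfl⟩ := (H7.mem_sup_of_le_normalizer
      (H7.le_normalizer_of_le_centralizer (γα.trans (Q_le_CZ α)))).mp hu
    have xT := h1.sr.pCoreOf_le hx.2
    have m3 := H8.commutatorElement_mem_of_normalizer (h1.nZ xT) hv
    have m4 : ⁅x, v⁆ = ⁅x, y⁻¹⁆ := by
      have m5 := hA.comm m1.1.1 x hx.1
      have m6 := Q_le_CZ γ hx.2 w hw
      have m7 := Q_le_CZ γ (αγ m3) w hw
      calc ⁅x, v⁆ = w * ⁅x, v⁆ * w⁻¹ := by rw [m7, mul_inv_cancel_right]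
        _ = w * x * v * x⁻¹ * v⁻¹ * w⁻¹ := by simp only [commutatorElement_def, mul_assoc]
        _ = x * y⁻¹ * x⁻¹ * (x * (y * (w * v))) * x⁻¹ * v⁻¹ * w⁻¹ := by rw [m6]; group
        _ = _ := by rw [m5, commutatorElement_def]; group
    have m5 := h1.l.cent h1.sl xT hx' hv (k2 ⟨m3, m4 ▸ H7.commutator_mem_commutator' (inv_mem hy) hx.2⟩)
    have m6 : y⁻¹ ∈ centralizer (cj a T : Set X) := h3.l.cent h3.sl (h3.sr.pCoreOf_le hx.2) (by
      rwa [← H7.cj_pCoreOf, ← ea x hx.1, H7.conj_mem_cj_iff]) (inv_mem hy) (by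
      rw [← m4, commutatorElement_eq_one_iff_mul_comm.mpr (m5 x xT)]; exact one_mem _)
    exact mul_mem (H7.mem_omegaOneCenter_iff.mpr ⟨(νQ hy).2, H7.centralizer_anti h3.sr.pCoreOf_le
      (inv_mem_iff.mp m6), (ea_Zp _).2 y hy⟩) (mul_mem hw (H7.mem_omegaOneCenter_iff.mpr
      ⟨αγ hv, H7.centralizer_anti h1.sr.pCoreOf_le m5, (ea_Zp _).2 v hv⟩))
  rw [sup_eq_right.mpr k5] at k4
  have bγ : Zp p β ≤ pCoreOf p γ := d.min h2.symm (by omega)
  have k6 := h1.l.card_sup_ge' h1.l.fmZ h1.sl γα ((le_inf inf_le_right (inf_le_left.trans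
    (le_centralizer_iff.mp (bγ.trans (Q_le_CZ γ))))).trans
    (h1.l.inf_cent h1.sl (bγ.trans h1.sr.pCoreOf_le) hc))
  rw [← hU] at k6
  exact k1 (le_sup_left.trans (H7.eq_of_le_of_card_le le_sup_right (k4.trans k6)).ge)

theorem CD.exists_good (d : CD X p (n + 2)) (e : End p (n + 1) δ) (hT : H7.IsSylowIn p T δ) :
    ∃ μ, Good p δ T μ := by
  obtain ⟨γ, β, h1, h2, h3⟩ := e.exists_crit hT
  cases n with
  | zero => exact ⟨γ, d.good_two h1 h2 h3⟩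
  | succ n => exact ⟨γ, d.good_far h1 h2 h3⟩

theorem CD.step (d : CD X p (n + 1)) (c : Crit p α T β T') (h3 : On p β T' β')
    (h4 : PNear p n α β') (hs : T₀ ⊔ T = α) (g : Good p α T₀ μ) : ∃ T'', Crit p μ T₀ β' T'' := by
  obtain ⟨T'', β'', h5, h6⟩ := (PNear.cons g.on.symm h4).last
  exact ⟨T'', (d.crit h5 h6.symm g.on.symm h4.symm fun hle =>
    c.not_le_of_good g hs (hle.trans h3.sr.pCoreOf_le)).symm⟩

theorem CD.central (d : CD X p (n + 2)) (e : End p (n + 1) δ) (g : Good p δ T μ) :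
    ⁅Zp p μ, T⁆ ≤ centralizer (δ : Set X) := by
  obtain ⟨T₁, h1, hs⟩ := g.on.l.exists_gen g.on.sl
  obtain ⟨γ, β, h2, h3, h4⟩ := e.exists_crit h1
  obtain ⟨T', β', h5, h6⟩ := h3.last
  have c := d.crit h2 h3 h5 (.cons h2 h6) h4
  obtain ⟨T'', c'⟩ := d.step c h5 (.cons h2 h6) hs g
  have h7 := le_centralizer_iff.mp (g.on.r.quad g.on.sr)
  refine le_centralizer_iff.mp (hs.ge.trans (sup_le h7 (c.sup.ge.trans
    (sup_le ?_ (g.on.sl.pCoreOf_le.trans h7)))))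
  exact ((d.adj h5).trans (Q_le_CZ β')).trans (H7.centralizer_anti c'.comm_le)

theorem CD.not_three (d : CD X p (n + 3)) : False := by
  obtain ⟨P₀, e₀⟩ := d.exists_end
  obtain ⟨T, γ₀, β₀, a1, a2, a3⟩ := id e₀
  obtain ⟨T₀', β₁, a4, a5⟩ := a2.last
  obtain ⟨T₁, s1, e1⟩ := a1.l.exists_gen' a1.sl
  obtain ⟨α₁, g1⟩ := d.exists_good e₀ s1
  obtain ⟨_, c1⟩ := d.step (d.crit a1 a2 a4 (.cons a1 a5) a3) a4 (.cons a1 a5) e1 g1
  obtain ⟨T₁', β₂, a6, a7⟩ := (PNear.cons a1 a5).last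
  obtain ⟨T₂, s2, e2⟩ := g1.on.r.exists_gen' g1.on.sr
  obtain ⟨α₂, g2⟩ := d.exists_good ⟨_, _, _, g1.on.symm, .cons a1 a5, c1.nc⟩ s2
  obtain ⟨_, c2⟩ := d.step (d.crit g1.on.symm (.cons a1 a5) a6 (.cons g1.on.symm a7) c1.nc) a6
    (.cons g1.on.symm a7) e2 g2
  have key : ∀ k j, k + j = n + 1 → ∃ α γ T β, On p α T γ ∧ PNear p k α α₂ ∧
      PNear p k γ α₁ ∧ PNear p j P₀ β ∧ ¬ Zp p β ≤ pCoreOf p α := by
    intro k
    induction k with
    | zero =>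
      intro j hj
      exact ⟨α₂, α₁, T₂, β₂, g2.on.symm, .refl 0 g2.on.r, .refl 0 g2.on.l, a7.mono, c2.nc⟩
    | succ k ih =>
      intro j hj
      obtain ⟨α, γ, T, β, b1, b2, b3, b4, b5⟩ := ih (j + 1) (by omega)
      obtain ⟨T', β', b6, b7⟩ := b4.last
      obtain ⟨T₀, s0, e0⟩ := b1.l.exists_gen' b1.sl
      have b9 : PNear p (n + 2) γ β := ((b3.snoc g1.on.symm).trans b4).mono
      obtain ⟨μ, g⟩ := d.exists_good ⟨_, _, _, b1, b9, b5⟩ s0
      have b8 : PNear p (n + 2) α β' := (((b2.snoc g2.on.symm).snoc g1.on.symm).trans b7).mono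
      obtain ⟨_, c⟩ := d.step (d.crit b1 b9 b6 b8 b5) b6 b8 e0 g
      exact ⟨μ, α, T₀, β', g.on.symm, .cons g.on.symm b2, b2.snoc g2.on.symm, b7, c.nc⟩
  obtain ⟨α, γ, T, β, b1, b2, b3, b4, b5⟩ := key (n + 1) 0 rfl
  obtain rfl := b4.eq
  have b6 := b2.snoc g2.on.symm
  have b7 := b3.snoc g1.on.symm
  have c := d.crit b1 b7 g1.on b6 b5
  obtain ⟨T₃, s3, e3⟩ := a1.l.exists_gen' s1
  obtain ⟨x, hx, rfl⟩ := s1.exists_cj s3
  have g3 := g1.cj x
  rw [H7.cj_eq_of_mem hx] at g3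
  obtain ⟨_, c3⟩ := d.step c.symm b1 b7.symm e3 g3
  have r1 := c3.comm_le
  rw [← cj_Zp, ← H7.cj_commutator, H7.cj_eq_of_mem_normalizer (H7.le_normalizer_of_le_centralizer
    (le_centralizer_iff.mp (d.central e₀ g1)) hx)] at r1
  obtain ⟨T₀, s0, e0⟩ := b1.l.exists_gen' b1.sl
  obtain ⟨ν, g4⟩ := d.exists_good ⟨_, _, _, b1, b7, b5⟩ s0
  obtain ⟨_, c4⟩ := d.step c g1.on b6 e0 g4
  have c5 := d.crit g2.on (PNear.cons g4.on.symm b2).symm g4.on.symm b6.symm c4.symm.nc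
  refine g1.on.r.not_comm_le g1.on.sr (le_centralizer_iff.mp (e2.ge.trans (sup_le
    (c5.sup.ge.trans (sup_le ?_ ?_)) (le_centralizer_iff.mp (g1.on.r.quad g1.on.sr)))))
  · exact ((d.min (.cons g4.on.symm b1.near) (by omega)).trans (Q_le_CZ γ)).trans
      (H7.centralizer_anti r1)
  · exact (Q_le_CZ α₁).trans (H7.centralizer_anti
      (H7.commutator_le_left_of_le_normalizer g1.on.symm.nZ))

end Cfsg.H9.GN
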