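import Cfsg.Agent.H9.GNSmall

/-!
Pushing up `PSL₂(F)` simultaneously in several groups: the geometry.
-/

set_option autoImplicit false
set_option linter.style.haveILetI false
set_option linter.unusedSectionVars false

namespace Cfsg.H9.GN

open Subgroup
open Cfsg.H7 (cj mem_cj frat)
open Cfsg.H8 (MaxAb JT ZJ)
open scoped commutatorElement

universe u

variable {X : Type u} [Group X] {p : ℕ}
variable {T T₀ T' α β β' γ δ μ ν : Subgroup X}

/-- two points sharing the Sylow subgroup `T` -/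
structure On (p : ℕ) (δ T μ : Subgroup X) : Prop where
  l : GP p δ
  r : GP p μ
  sl : H7.IsSylowIn p T δ
  sr : H7.IsSylowIn p T μ

theorem On.symm (h : On p δ T μ) : On p μ T δ := ⟨h.r, h.l, h.sr, h.sl⟩

theorem On.cj [Finite X] [Fact p.Prime] (h : On p δ T μ) (g : X) : On p (cj g δ) (cj g T) (cj g μ) :=
  ⟨h.l.cj g, h.r.cj g, h.sl.cj g, h.sr.cj g⟩

/-- distance at most `n` in the collinearity graph -/
inductive PNear (p : ℕ) : ℕ → Subgroup X → Subgroup X → Prop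
  | refl (n : ℕ) {δ : Subgroup X} : GP p δ → PNear p n δ δ
  | cons {n : ℕ} {δ T μ ν : Subgroup X} : On p δ T μ → PNear p n μ ν → PNear p (n + 1) δ ν

namespace PNear

variable {m n : ℕ}

theorem r (h : PNear p n δ μ) : GP p μ := by
  induction h with
  | refl _ h => exact h
  | cons _ _ ih => exact ih

theorem l (h : PNear p n δ μ) : GP p δ := by
  cases h with
  | refl _ h => exact h
  | cons h _ => exact h.l

theorem mono (h : PNear p n δ μ) (hle : n ≤ m := by omega) : PNear p m δ μ := by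
  induction h generalizing m with
  | refl _ h => exact refl _ h
  | cons h _ ih =>
    obtain ⟨m, rfl⟩ : ∃ k, m = k + 1 := ⟨m - 1, by omega⟩
    exact cons h (ih (by omega))

theorem trans (h : PNear p n δ μ) (h' : PNear p m μ ν) : PNear p (m + n) δ ν := by
  induction h with
  | refl _ h => exact h'.mono
  | cons h _ ih => exact cons h (ih h')

theorem snoc (h : PNear p n δ μ) (h' : On p μ T ν) : PNear p (n + 1) δ ν :=
  (h.trans (cons h' (refl 0 h'.r))).mono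

theorem symm (h : PNear p n δ μ) : PNear p n μ δ := by
  induction h with
  | refl _ h => exact refl _ h
  | cons h _ ih => exact ih.snoc h.symm

theorem first (h : PNear p (n + 1) δ ν) : ∃ T μ, On p δ T μ ∧ PNear p n μ ν := by
  cases h with
  | refl _ h => exact let ⟨T, hT⟩ := H7.exists_isSylowIn p δ; ⟨T, δ, ⟨h, h, hT, hT⟩, refl _ h⟩
  | cons h h' => exact ⟨_, _, h, h'⟩

theorem last (h : PNear p (n + 1) δ ν) : ∃ T μ, On p ν T μ ∧ PNear p n δ μ :=
  let ⟨T, μ, h1, h2⟩ := h.symm.first; ⟨T, μ, h1, h2.symm⟩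

theorem eq (h : PNear p 0 δ μ) : δ = μ := by
  cases h; rfl

protected theorem cj [Finite X] [Fact p.Prime] (h : PNear p n δ μ) (g : X) : PNear p n (cj g δ) (cj g μ) := by
  induction h with
  | refl _ h => exact refl _ (h.cj g)
  | cons h _ ih => exact cons (h.cj g) ih

end PNear

theorem On.near (h : On p δ T μ) : PNear p 1 δ μ := .cons h (.refl 0 h.r)

/-- a critical configuration -/
structure Crit (p : ℕ) (δ T β T' : Subgroup X) : Prop where
  l : GP p δ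
  r : GP p β
  sl : H7.IsSylowIn p T δ
  sr : H7.IsSylowIn p T' β
  zl : Zp p β ≤ T
  zr : Zp p δ ≤ T'
  nc : ¬ Zp p β ≤ pCoreOf p δ

/-- `Z_μ Z_δ` is not normal in `δ` -/
structure Good (p : ℕ) (δ T μ : Subgroup X) : Prop where
  on : On p δ T μ
  nn : ¬ δ ≤ normalizer ((Zp p μ ⊔ Zp p δ : Subgroup X) : Set X)

theorem Good.cj [Finite X] [Fact p.Prime] (h : Good p δ T μ) (g : X) : Good p (cj g δ) (cj g T) (cj g μ) :=
  ⟨h.on.cj g, fun hle => h.nn (by
    rwa [← cj_Zp, ← cj_Zp, ← H7.cj_sup, ← H7.cj_normalizer, H7.cj_le_cj_iff] at hle)⟩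

/-- the critical distance is `b` -/
structure CD (X : Type u) [Group X] (p : ℕ) (b : ℕ) : Prop where
  min : ∀ {n : ℕ} {δ μ : Subgroup X}, PNear p n δ μ → n < b → Zp p δ ≤ pCoreOf p μ
  ex : ∃ δ μ : Subgroup X, PNear p b δ μ ∧ ¬ Zp p μ ≤ pCoreOf p δ

/-- the end point of a critical path -/
def End (p n : ℕ) (δ : Subgroup X) : Prop :=
  ∃ T γ β, On p δ T γ ∧ PNear p n γ β ∧ ¬ Zp p β ≤ pCoreOf p δ

theorem On.nZ (o : On p δ T β) : T ≤ normalizer (Zp p δ : Set X) := o.sl.le.trans (nZp δ)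

theorem On.nQ (o : On p δ T β) : T ≤ normalizer (pCoreOf p δ : Set X) :=
  o.sl.le.trans (H7.le_normalizer_pCoreOf p δ)

variable {n : ℕ}

theorem CD.exists_end (d : CD X p (n + 1)) : ∃ δ : Subgroup X, End p n δ :=
  let ⟨δ, β, h1, h2⟩ := d.ex
  let ⟨T, γ, h3, h4⟩ := h1.first
  ⟨δ, T, γ, β, h3, h4, h2⟩

theorem End.gp (e : End p n δ) : GP p δ := let ⟨_, _, _, h, _⟩ := e; h.l

theorem CD.crit (d : CD X p (n + 1)) (h1 : On p α T γ) (h2 : PNear p n γ β)
    (h3 : On p β T' β') (h4 : PNear p n α β') (hc : ¬ Zp p β ≤ pCoreOf p α) :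
    Crit p α T β T' :=
  ⟨h1.l, h3.l, h1.sl, h3.sl, (d.min h2.symm n.lt_succ_self).trans h1.sr.pCoreOf_le,
    (d.min h4 n.lt_succ_self).trans h3.sr.pCoreOf_le, hc⟩

theorem CD.adj (d : CD X p (n + 2)) (o : On p δ T β) : Zp p δ ≤ pCoreOf p β :=
  d.min o.near (by omega)

variable [Finite X] [Fact p.Prime]

theorem End.exists_crit (e : End p n δ) (hT : H7.IsSylowIn p T δ) :
    ∃ γ β, On p δ T γ ∧ PNear p n γ β ∧ ¬ Zp p β ≤ pCoreOf p δ := by
  obtain ⟨T', γ, β, h1, h2, h3⟩ := e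
  obtain ⟨g, hg, rfl⟩ := h1.sl.exists_cj hT
  have h4 := h1.cj g
  rw [H7.cj_eq_of_mem hg] at h4
  refine ⟨_, _, h4, h2.cj g, fun hle => h3 ?_⟩
  rwa [← H7.cj_eq_of_mem hg, ← cj_Zp, ← H7.cj_pCoreOf, H7.cj_le_cj_iff] at hle

namespace Crit

variable (c : Crit p δ T β T')
include c

theorem symm : Crit p β T' δ T :=
  ⟨c.r, c.l, c.sr, c.sl, c.zr, c.zl, fun hle => c.nc (c.l.le_Q c.sl c.zl
    (le_centralizer_iff.mp (hle.trans (Q_le_CZ β))))⟩

theorem qq_le : qq p β ≤ (pCoreOf p δ).relIndex (Zp p β) := by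
  have h1 : pCoreOf p δ ⊓ Zp p β ≤ centralizer (T' : Set X) :=
    (le_inf inf_le_right (inf_le_left.trans (Q_le_CZ δ))).trans (c.r.inf_cent c.sr c.zr c.symm.nc)
  have h2 := (c.r.idxZ' c.r.fmZ c.sr).trans (relIndex_le_of_le_left h1 (relIndex_pos _ _).ne')
  rwa [inf_relIndex_right] at h2

theorem qq_eq : qq p δ = qq p β :=
  le_antisymm (c.symm.qq_le.trans (relIndex_le_qq c.sr c.zr))
    (c.qq_le.trans (relIndex_le_qq c.sl c.zl))

theorem sup : Zp p β ⊔ pCoreOf p δ = T := sup_of_qq_le c.sl c.zl (c.qq_eq.le.trans c.qq_le)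

theorem inf {K : Subgroup X} (hK : K ≤ T) (h1 : Zp p β ≤ K) : Zp p β ⊔ pCoreOf p δ ⊓ K = K := by
  rw [← H7.dedekind_left h1 ((c.zl.trans c.sl.le).trans (H7.le_normalizer_pCoreOf p δ)), c.sup]
  exact inf_eq_right.mpr hK

theorem comm : ⁅Zp p δ, T⁆ = ⁅Zp p δ, Zp p β⁆ := by
  rw [← c.sup]
  exact H7.commutator_sup_of_le_centralizer ((c.zl.trans c.sl.le).trans (nZp δ)) (Q_le_CZ δ)

theorem comm' : ⁅Zp p δ, T⁆ = ⁅Zp p β, T'⁆ := by
  rw [c.comm, c.symm.comm, commutator_comm]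

theorem comm_le : ⁅Zp p δ, T⁆ ≤ Zp p β := by
  rw [c.comm']
  exact H7.commutator_le_left_of_le_normalizer (c.sr.le.trans (nZp β))

theorem not_le_of_good (g : Good p δ T₀ μ) (hs : T₀ ⊔ T = δ) : ¬ Zp p μ ≤ T' := fun hle => by
  have h1 : T₀ ≤ normalizer ((Zp p μ ⊔ Zp p δ : Subgroup X) : Set X) :=
    H7.le_normalizer_sup g.on.symm.nZ g.on.nZ
  refine g.nn (hs.ge.trans (sup_le h1 (c.sup.ge.trans
    (sup_le ?_ (g.on.sl.pCoreOf_le.trans h1)))))
  refine H7.le_normalizer_of_commutator_le le_rfl (H7.sup_commutator_le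
    (H7.le_normalizer_of_le le_sup_left) (H7.le_normalizer_of_le le_sup_right) ?_ ?_)
  · rw [commutator_comm]
    exact ((commutator_mono le_rfl hle).trans c.symm.comm_le).trans le_sup_right
  · exact (H7.commutator_le_left_of_le_normalizer ((c.zl.trans c.sl.le).trans (nZp δ))).trans
      le_sup_right

end Crit

theorem CD.not_one (d : CD X p 1) : False := by
  obtain ⟨δ, T, γ, β, h1, h2, h3⟩ := d.exists_end
  obtain rfl := h2.eq
  have c := d.crit h1 h2 h1.symm (.refl 0 h1.l) h3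
  refine h1.l.ns T h1.sl (h1.l.small h1.sl (ea_Zp γ) c.sup (H7.le_normalizer_pCoreOf p δ) le_rfl
    (Zp_le δ) (H7.commutator_le_left_of_le_normalizer h1.nQ) ?_)
  exact (c.symm.inf h1.sl.pCoreOf_le (Zp_le δ)).ge.trans
    (sup_le_sup_left (le_inf inf_le_right (inf_le_left.trans (Q_le_CZ γ))) _)

theorem On.norm_inf (o : On p α T γ)
    (hn : α ≤ normalizer ((Zp p γ ⊔ Zp p α : Subgroup X) : Set X)) :
    α ≤ normalizer ((pCoreOf p α ⊓ pCoreOf p γ : Subgroup X) : Set X) := by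
  have e : pCoreOf p α ⊓ pCoreOf p γ =
      pCoreOf p α ⊓ centralizer ((Zp p γ ⊔ Zp p α : Subgroup X) : Set X) := by
    rw [H7.centralizer_sup]
    exact le_antisymm (le_inf inf_le_left (le_inf (inf_le_right.trans (Q_le_CZ γ))
      (inf_le_left.trans (Q_le_CZ α)))) (le_inf inf_le_left (o.r.le_Q o.sr
        (inf_le_left.trans o.sl.pCoreOf_le) (inf_le_right.trans inf_le_left)))
  exact e ▸ H7.le_normalizer_inf (H7.le_normalizer_pCoreOf p α) (H7.le_normalizer_centralizer hn)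

theorem CD.good_two (d : CD X p 2) (h1 : On p α T γ) (h2 : PNear p 1 γ β)
    (hc : ¬ Zp p β ≤ pCoreOf p α) : Good p α T γ := by
  refine ⟨h1, fun hn => ?_⟩
  obtain ⟨T', β', h3, h4⟩ := h2.last
  obtain rfl := h4.eq
  have c := d.crit h1 h2 h3 h1.near hc
  refine h1.l.ns T h1.sl (h1.l.small h1.sl (ea_Zp β) c.sup (h1.norm_inf hn) inf_le_left
    (le_inf (Zp_le α) (d.adj h1)) (le_inf (H7.commutator_le_left_of_le_normalizer h1.nQ)
      ((commutator_mono h1.sl.pCoreOf_le le_rfl).trans (h1.r.comm_le_Q h1.sr))) ?_)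
  exact (c.symm.inf (inf_le_right.trans h3.sr.pCoreOf_le) (le_inf (Zp_le α) (d.adj h1))).ge.trans
    (sup_le_sup_left (le_inf inf_le_right (inf_le_left.trans (Q_le_CZ β))) _)

theorem CD.not_norm (d : CD X p (n + 2)) (h1 : On p α T γ) (h2 : PNear p (n + 1) γ β)
    (hc : ¬ Zp p β ≤ pCoreOf p α) :
    ¬ γ ≤ normalizer ((Zp p γ ⊔ Zp p α : Subgroup X) : Set X) := fun hn => by
  obtain ⟨T₂, μ, h3, h4⟩ := h2.first
  obtain ⟨g, hg, rfl⟩ := h1.sr.exists_cj h3.sl
  have h5 := d.min (PNear.cons ⟨h1.l.cj g, h3.r, h1.sl.cj g, h3.sr⟩ h4) (by omega)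
  have h6 := d.min h2.symm (by omega)
  refine hc (h1.l.le_Q h1.sl (h6.trans h1.sr.pCoreOf_le) (le_centralizer_iff.mp
    (le_sup_right.trans ((H7.cj_eq_of_mem_normalizer (hn hg)).ge.trans ?_))))
  rw [H7.cj_sup, H7.cj_eq_of_mem_normalizer (nZp γ hg), cj_Zp]
  exact sup_le (le_centralizer_iff.mp (h6.trans (Q_le_CZ γ))) (h5.trans (Q_le_CZ β))

end Cfsg.H9.GN
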