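import Cfsg.Agent.H9.GNLoc

/-!
Pushing up `PSL₂(F)`: the centre of the Thompson subgroup and its centralizer.
-/

set_option autoImplicit false
set_option linter.style.haveILetI false
set_option linter.unusedSectionVars false

namespace Cfsg.H9

open Subgroup Matrix
open Cfsg.H7 (cj mem_cj)
open Cfsg.H8 (SecMap MaxAb JT ZJ)
open scoped commutatorElement MatrixGroups

universe u v

variable {X : Type u} [Group X] {p : ℕ}
variable {P T A : Subgroup X}

/-- the centralizer in `T` of `Z(J(T))` -/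
abbrev jt (T : Subgroup X) : Subgroup X := T ⊓ centralizer (ZJ 0 T : Set X)

/-- the rank one hypothesis -/
structure RO (p : ℕ) (P : Subgroup X) : Prop where
  char : H7.IsCharP p P
  lift : ∃ (F : Type) (_ : Field F) (_ : Fintype F) (_ : CharP F p)
    (Γ : Subgroup (X × SL(2, F))), Lift p P Γ

variable [Finite X] [Fact p.Prime]

theorem le_ZJ_zero {B : Subgroup X} (h1 : B ≤ T) (h2 : B ≤ centralizer (T : Set X)) : B ≤ ZJ 0 T :=
  H8.le_ZJ h1 (h2.trans (H7.centralizer_anti (H8.JT_le 0 T))) fun b _ => pow_zero b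

theorem ctr_le_ZJ (T : Subgroup X) : ctr T ≤ ZJ 0 T := le_ZJ_zero inf_le_left inf_le_right

theorem le_normalizer_jt (h : A ≤ normalizer (T : Set X)) : A ≤ normalizer (jt T : Set X) :=
  H7.le_normalizer_inf h (H7.le_normalizer_centralizer
    (h.trans (H8.normalizer_le_normalizer_ZJ 0 T)))

theorem RO.of_hyp {G : Type v} [Group G] [Finite G] (S : Sylow p G)
    (hE₁ : centralizer (pCore p G : Set G) ≤ pCore p G)
    (hE₂ : ∃! M : Subgroup G, IsCoatom M ∧ (S : Subgroup G) ≤ M) (K : Subgroup G) [K.Normal]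
    (F : Type) [Field F] [Fintype F] {n : ℕ} (hF : Fintype.card F = p ^ n)
    (hE₃ : Nonempty (G ⧸ K ≃* PSL(2, F))) : RO p (⊤ : Subgroup G) :=
  haveI := charP_of_card hF
  ⟨H7.isCharP_top_iff.mpr hE₁, F, _, ‹_›, ‹_›, exists_lift S hE₂ K hE₃.some⟩

theorem RO.of_situation {G : Type v} [Group G] [Finite G] {S : Subgroup G}
    (h : IsPushingUpSituation p S) : RO p (⊤ : Subgroup G) ∧ H7.IsSylowIn p S ⊤ := by
  obtain ⟨-, ⟨S, rfl⟩, h1, h2, K, _, F, _, _, n, h3, h4⟩ := h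
  exact ⟨RO.of_hyp S h1 h2 K F h3 h4, H7.isSylowIn_top S⟩

theorem RO.not_le_Q (h : RO p P) (hT : H7.IsSylowIn p T P) : ¬ T ≤ pCoreOf p P := by
  obtain ⟨F, _, _, _, Γ, l⟩ := h.lift
  obtain ⟨T', h1, h2⟩ := l.exists_gen hT
  obtain ⟨_, f⟩ := l.exists_frame hT h1 h2
  obtain ⟨x, h3, h4⟩ := f.swap.exists_not_mem_Q
  exact fun hle => h4 (hle h3)

theorem RO.cases (h : RO p P) (hT : H7.IsSylowIn p T P) : ctr T ≤ centralizer (P : Set X) ∨
    (P ≤ normalizer (jt T : Set X) ∧ jt T ≤ pCoreOf p P) ∨ Loc p P := by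
  refine or_iff_not_imp_left.mpr fun h1 => ?_
  by_cases h2 : JT 0 T ≤ pCoreOf p P
  swap
  · exact Or.inr (Loc.of_one h.char h.lift hT h2 h1)
  obtain ⟨F, _, _, _, Γ, l⟩ := h.lift
  obtain ⟨T', h3, h4⟩ := l.exists_gen hT
  obtain ⟨_, f⟩ := l.exists_frame hT h3 h4
  have e := H8.ZJ_eq_of_le h2 hT.pCoreOf_le
  have h5 : jt T ≤ pCoreOf p P := (inf_le_inf_left _ (H7.centralizer_anti (e ▸ ctr_le_ZJ _))).trans
    (f.inf_le_Q (le_normalizer_ctr (H7.le_normalizer_pCoreOf p P)) fun hle =>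
      h1 ((le_inf (ctr_le_ctr_Q h.char hT) inf_le_right).trans hle))
  have e2 : jt T = jt (pCoreOf p P) := by
    rw [jt, jt, e]
    exact le_antisymm (le_inf h5 inf_le_right) (inf_le_inf_right _ hT.pCoreOf_le)
  exact Or.inl ⟨e2 ▸ le_normalizer_jt (H7.le_normalizer_pCoreOf p P), h5⟩

theorem RO.cases' (h : RO p P) (hT : H7.IsSylowIn p T P) (hJ : T ≤ centralizer (ZJ 0 T : Set X)) :
    ctr T ≤ centralizer (P : Set X) ∨ Loc p P :=
  (h.cases hT).imp_right fun h1 => h1.resolve_left fun h2 =>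
    h.not_le_Q hT ((le_inf le_rfl hJ).trans h2.2)

namespace Loc

variable (h : Loc p P) (hT : H7.IsSylowIn p T P)
include h hT

theorem zj_struct : ∃ A Y, MaxAb 0 T A ∧ A ⊔ pCoreOf p P = T ∧ A ≤ Y ∧ Y ⊔ pCoreOf p P = P ∧
    ZJ 0 T ≤ ctr T ⊔ ZJ 0 T ⊓ centralizer (Y : Set X) := by
  obtain ⟨A, hA, hQ⟩ := h.big T hT
  obtain ⟨g, hg, e⟩ := h.exists_opp hT
  obtain ⟨h1, h2⟩ := h.repl' h.fmV hT hA hQ
  have h3 : A ⊓ pCoreOf p P ⊔ ctr (pCoreOf p P) ≤ pCoreOf p P := sup_le inf_le_right inf_le_left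
  have h4 := (h2.mono h3 hT.pCoreOf_le).ZJ_le
  have h5 := h.le_sup_cent' h.fmV (W := ZJ 0 (pCoreOf p P)) hT hg e hA.le
    (H8.normalizer_le_normalizer_ZJ 0 _ (H7.le_normalizer_pCoreOf p P hg)) (ctr_le_ZJ _)
    ((H8.ZJ_le 0 _).trans h.fmV.cen) (by
      rw [sup_comm] at h4
      refine ((le_inf h4 le_rfl).trans (H7.dedekind_right (ctr_le_ZJ _)
        (H7.le_normalizer_of_le_centralizer (inf_le_right.trans h.fmV.cen))).le).trans
        (sup_le_sup_left (le_inf inf_le_right ((inf_le_left.trans inf_le_left).trans hA.comm)) _))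
  have h6 : ctr (pCoreOf p P) ⊓ centralizer (T : Set X) ≤ ctr T :=
    inf_le_inf_right _ (inf_le_left.trans hT.pCoreOf_le)
  refine ⟨A, A ⊔ cj g A, hA, h1, le_sup_left, ?_, ?_⟩
  · rw [sup_sup_distrib_right, h1, ← H7.cj_eq_of_mem_normalizer (H7.le_normalizer_pCoreOf p P hg),
      ← H7.cj_sup, h1, e]
  · have h7 := (le_inf (h2.ZJ_le_ZJ h3 hT.pCoreOf_le) (hA.ZJ_le.trans hA.comm)).trans
      (h5.trans (sup_le_sup_right h6 _))
    refine ((le_inf h7 le_rfl).trans (H7.dedekind_right (ctr_le_ZJ T)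
      (H7.le_normalizer_of_le_centralizer (le_centralizer_iff.mp (inf_le_right.trans
        (H7.centralizer_anti (inf_le_left.trans ((H8.ZJ_le 0 _).trans hT.pCoreOf_le))))))).le).trans
      (sup_le_sup_left (le_inf inf_le_right (inf_le_left.trans inf_le_right)) _)

theorem jt_sylow : ∃ Y, H7.IsSylowIn p (jt T) Y ∧ ∀ g ∈ P, cj g (jt T) ≤ Y := by
  obtain ⟨A, Y, hA, h1, h2, h3, h4⟩ := h.zj_struct hT
  obtain ⟨Z, hZ⟩ : ∃ Z, Z = ZJ 0 T ⊓ centralizer (Y : Set X) := ⟨_, rfl⟩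
  have e : jt T = T ⊓ centralizer (Z : Set X) := le_antisymm
    (inf_le_inf_left _ (H7.centralizer_anti (hZ ▸ inf_le_left))) (le_inf inf_le_left
      (le_trans (by
        rw [H7.centralizer_sup, ← hZ]
        exact inf_le_inf_right _ (le_centralizer_iff.mp inf_le_right)) (H7.centralizer_anti h4)))
  have h5 : Y ≤ P ⊓ centralizer (Z : Set X) :=
    le_inf (le_sup_left.trans h3.le) (le_centralizer_iff.mp (hZ ▸ inf_le_right))
  have h6 : jt T ≤ P ⊓ centralizer (Z : Set X) := e ▸ inf_le_inf_right _ hT.le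
  refine ⟨_, ⟨h6, hT.isPGroup.to_inf_left, fun R r1 r2 r3 => le_antisymm ?_ r2⟩, fun g hg => ?_⟩
  · have r4 := r3.trans inf_le_left
    rw [e] at r2 ⊢
    refine le_inf (le_sup_left.trans (hT.max (R ⊔ pCoreOf p P) (H7.isPGroup_sup
      (r4.trans (H7.le_normalizer_pCoreOf p P)) r1 (H7.isPGroup_pCoreOf p P)) (h1.ge.trans
      (sup_le_sup_right ((le_inf hA.le (h2.trans (h5.trans inf_le_right))).trans r2) _))
      (sup_le r4 (H7.pCoreOf_le p P))).le) (r3.trans inf_le_right)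
  · obtain ⟨y, hy, q, hq, rfl⟩ := (H7.mem_sup_of_le_normalizer ((h5.trans inf_le_left).trans
      (H7.le_normalizer_pCoreOf p P))).mp (h3.ge hg)
    rw [H7.cj_mul, H7.cj_eq_of_mem_normalizer (le_normalizer_jt le_normalizer (hT.pCoreOf_le hq))]
    exact H7.cj_le_of_le' (h5 hy) h6

theorem zj_comm : ⁅ZJ 0 T, T⁆ ⊓ ctr T ≤ centralizer (P : Set X) := by
  obtain ⟨A, Y, hA, h1, h2, h3, h4⟩ := h.zj_struct hT
  obtain ⟨Z, hZ⟩ : ∃ Z, Z = ZJ 0 T ⊓ centralizer (Y : Set X) := ⟨_, rfl⟩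
  have h5 : Y ≤ centralizer (Z : Set X) := le_centralizer_iff.mp (hZ ▸ inf_le_right)
  have h6 : P ≤ normalizer ((⁅Z, pCoreOf p P⁆ : Subgroup X) : Set X) := h3.ge.trans (sup_le
    (H7.le_normalizer_commutator (H7.le_normalizer_of_le_centralizer h5)
      ((le_sup_left.trans h3.le).trans (H7.le_normalizer_pCoreOf p P)))
    (normalizer_commutator_ge_right _ _))
  have h7 : ⁅ZJ 0 T, T⁆ ≤ ⁅Z, pCoreOf p P⁆ := (commutator_mono h4 le_rfl).trans (by
    rw [← hZ]
    refine H7.sup_commutator_le ((inf_le_left.trans hT.le).trans h6)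
      (normalizer_commutator_ge_left _ _)
      (H7.commutator_le_of_le_centralizer (le_centralizer_iff.mp inf_le_right)) ?_
    rw [← h1]
    exact H7.commutator_sup_le ((hA.le.trans hT.le).trans h6) (normalizer_commutator_ge_right _ _)
      (H7.commutator_le_of_le_centralizer (h2.trans h5)) le_rfl)
  have h8 : ⁅Z, pCoreOf p P⁆ ≤ centralizer (A : Set X) :=
    ((commutator_mono (hZ ▸ inf_le_left) hT.pCoreOf_le).trans
      (H7.commutator_le_left_of_le_normalizer (le_normalizer.trans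
        (H8.normalizer_le_normalizer_ZJ 0 T)))).trans (hA.ZJ_le.trans hA.comm)
  refine (inf_le_inf h7 (ctr_le_ctr_Q h.char hT)).trans
    (h.central hT (H7.le_normalizer_inf h6 h.fmV.n) ?_)
  rw [← h1, H7.centralizer_sup]
  exact inf_le_inf h8 inf_le_right

theorem pow_ctr : powerClosure p 1 (ctr T) ≤ centralizer (P : Set X) := by
  rw [powerClosure, closure_le]
  rintro _ ⟨x, hx, rfl⟩
  rw [pow_one]
  exact h.pow_cent' h.fmV (ctr_le_ctr_Q h.char hT hx)

end Loc

theorem normal_of_le_centralizer_top {N : Subgroup X} (h : N ≤ centralizer ((⊤ : Subgroup X) : Set X)) :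
    N.Normal :=
  H7.normal_of_le_normalizer_top (H7.le_normalizer_of_le_centralizer (le_centralizer_iff.mp h))

theorem powerClosure_le (n k : ℕ) (A : Subgroup X) : powerClosure n k A ≤ A := by
  rw [powerClosure, closure_le]
  rintro _ ⟨x, hx, rfl⟩
  exact pow_mem hx _

namespace RO

variable (h : RO p (⊤ : Subgroup X)) (hT : H7.IsSylowIn p T ⊤)
include h hT

theorem zj_pair : (⁅ZJ 0 T, T⁆ ⊓ ctr T).Normal ∨ (jt T).Normal := by
  rcases h.cases hT with h1 | h1 | h1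
  · exact Or.inl (normal_of_le_centralizer_top (inf_le_right.trans h1))
  · exact Or.inr (H7.normal_of_le_normalizer_top h1.1)
  · exact Or.inl (normal_of_le_centralizer_top (h1.zj_comm hT))

theorem pow_pair : (powerClosure p 1 (ctr T)).Normal ∨ (jt T).Normal := by
  rcases h.cases hT with h1 | h1 | h1
  · exact Or.inl (normal_of_le_centralizer_top ((powerClosure_le _ _ _).trans h1))
  · exact Or.inr (H7.normal_of_le_normalizer_top h1.1)
  · exact Or.inl (normal_of_le_centralizer_top (h1.pow_ctr hT))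

theorem jt_sylow (hZ : ¬ (ctr T).Normal) : H7.IsSylowIn p (jt T) (normalClosure (jt T : Set X)) := by
  rcases h.cases hT with h1 | h1 | h1
  · exact absurd (normal_of_le_centralizer_top h1) hZ
  · haveI := H7.normal_of_le_normalizer_top h1.1
    rw [normalClosure_eq_self]
    exact H7.isSylowIn_self hT.isPGroup.to_inf_left
  · obtain ⟨Y, h2, h3⟩ := h1.jt_sylow hT
    refine h2.mono le_normalClosure ?_
    rw [H7.normalClosure_eq_iSup_cj]
    exact iSup_le fun g => h3 g trivial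

end RO

end Cfsg.H9
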