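import Cfsg.Agent.H9.GNFF

/-!
Pushing up `PSL₂(F)` with large abelian subgroups: the local structure.
-/

set_option autoImplicit false
set_option linter.style.haveILetI false
set_option linter.unusedSectionVars false

namespace Cfsg.H9

open Subgroup Matrix
open Cfsg.H7 (cj mem_cj)
open Cfsg.H3 (U Lo)
open Cfsg.H8 (SecMap MaxAb JT ZJ)
open scoped commutatorElement MatrixGroups

universe u v

variable {X : Type u} [Group X] {p : ℕ}
variable {P T T' T₀ T₁ H V A B N Y : Subgroup X}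

/-- the centre of a subgroup -/
abbrev ctr (T : Subgroup X) : Subgroup X := T ⊓ centralizer (T : Set X)

theorem ctr_comm (T : Subgroup X) : ctr T ≤ centralizer (ctr T : Set X) :=
  H7.inf_centralizer_le_centralizer T

theorem le_normalizer_ctr (h : A ≤ normalizer (T : Set X)) : A ≤ normalizer (ctr T : Set X) :=
  H7.le_normalizer_inf h (H7.le_normalizer_centralizer h)

theorem sup_comm_of (hA : A ≤ centralizer (A : Set X)) (hB : B ≤ centralizer (B : Set X))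
    (h : A ≤ centralizer (B : Set X)) : A ⊔ B ≤ centralizer ((A ⊔ B : Subgroup X) : Set X) := by
  rw [H7.centralizer_sup]
  exact sup_le (le_inf hA h) (le_inf (le_centralizer_iff.mp h) hB)

theorem comm_mono (hA : A ≤ centralizer (A : Set X)) (h : B ≤ A) : B ≤ centralizer (B : Set X) :=
  h.trans (hA.trans (H7.centralizer_anti h))

theorem maxAb_card (h : MaxAb 0 T A) (h1 : B ≤ T) (h2 : B ≤ centralizer (B : Set X)) :
    Nat.card B ≤ Nat.card A := h.2.2.2 B h1 h2 fun b _ => pow_zero b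

theorem maxAb_of_card (h : MaxAb 0 T A) (h1 : B ≤ T) (h2 : B ≤ centralizer (B : Set X))
    (h3 : Nat.card A ≤ Nat.card B) : MaxAb 0 T B := h.of_card_ge h1 h2 (fun b _ => pow_zero b) h3

theorem maxAb_le [Finite X] (h : MaxAb 0 T A) (h1 : B ≤ T) (h2 : B ≤ centralizer (A : Set X)) :
    B ≤ A := h.le_of_centralizer h1 h2 fun b _ => pow_zero b

theorem maxAb_best [Finite X] (h : MaxAb 0 T A) (hV : V ≤ T) (hc : V ≤ centralizer (V : Set X)) :
    Best V A := by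
  intro B hB
  have h1 : B ≤ centralizer ((V ⊓ centralizer (B : Set X) : Subgroup X) : Set X) :=
    le_centralizer_iff.mp inf_le_right
  rw [← H7.card_sup_mul_card_inf (H7.le_normalizer_of_le_centralizer h1)]
  exact Nat.mul_le_mul (maxAb_card h (sup_le (hB.trans h.le) (inf_le_left.trans hV))
    (sup_comm_of (comm_mono h.comm hB) (comm_mono hc inf_le_left) h1))
    (card_le_of_le (le_inf (inf_le_right.trans inf_le_left) (inf_le_left.trans (hB.trans h.comm))))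

theorem map_ctr {G : Type v} [Group G] {i : G →* X} (hi : Function.Injective i) (T : Subgroup G) :
    (ctr T).map i = ctr (T.map i) := by
  ext x
  constructor
  · rintro ⟨t, ht, rfl⟩
    exact ⟨mem_map_of_mem i ht.1, by
      rintro _ ⟨s, hs, rfl⟩
      rw [← map_mul, ← map_mul, ht.2 s hs]⟩
  · rintro ⟨⟨t, ht, rfl⟩, h⟩
    exact ⟨t, ⟨ht, fun s hs => hi (by rw [map_mul, map_mul]; exact h _ (mem_map_of_mem i hs))⟩, rfl⟩

theorem map_le_centralizer_iff {G : Type v} [Group G] {i : G →* X} (hi : Function.Injective i)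
    {A B : Subgroup G} : A.map i ≤ centralizer (B.map i : Set X) ↔ A ≤ centralizer (B : Set G) := by
  rw [← H7.commutator_eq_bot_iff', ← H7.commutator_eq_bot_iff', ← map_commutator,
    map_eq_bot_iff_of_injective _ hi]

/-- the index of `O_p(P)` in a Sylow subgroup -/
noncomputable def qq (p : ℕ) (P : Subgroup X) : ℕ :=
  p ^ (Nat.card P).factorization p / Nat.card (pCoreOf p P)

/-- a rank one group in which large abelian subgroups act on the centre of `O_p` -/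
structure Loc (p : ℕ) (P : Subgroup X) : Prop where
  char : H7.IsCharP p P
  lift : ∃ (F : Type) (_ : Field F) (_ : Fintype F) (_ : CharP F p)
    (Γ : Subgroup (X × SL(2, F))), Lift p P Γ
  big : ∀ T, H7.IsSylowIn p T P → ∃ A, MaxAb 0 T A ∧ ¬ A ≤ pCoreOf p P
  nc : ∀ T, H7.IsSylowIn p T P → ¬ ctr T ≤ centralizer (P : Set X)

/-- a central subgroup of `O_p(P)` -/
structure FM (p : ℕ) (P V : Subgroup X) : Prop where
  le : V ≤ pCoreOf p P
  cen : pCoreOf p P ≤ centralizer (V : Set X)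
  n : P ≤ normalizer (V : Set X)
  nc : ∀ T, H7.IsSylowIn p T P → ¬ V ⊓ centralizer (T : Set X) ≤ centralizer (P : Set X)

theorem FM.comm (m : FM p P V) : V ≤ centralizer (V : Set X) := m.le.trans m.cen

theorem ctr_le_ctr_Q (hc : H7.IsCharP p P) (hT : H7.IsSylowIn p T P) : ctr T ≤ ctr (pCoreOf p P) :=
  have h := inf_le_right.trans (H7.centralizer_anti hT.pCoreOf_le)
  le_inf (hc.le_pCoreOf (inf_le_left.trans hT.le) h) h

theorem Loc.map {G : Type v} [Group G] {i : G →* X} (hi : Function.Injective i) {P : Subgroup G}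
    (h : Loc p P) : Loc p (P.map i) := by
  have k : ∀ T, H7.IsSylowIn p T (P.map i) → ∃ T', T = T'.map i ∧ H7.IsSylowIn p T' P := fun T hT => by
    obtain ⟨T, rfl⟩ : ∃ T' : Subgroup G, T = T'.map i :=
      ⟨T.comap i, (map_comap_eq_self (hT.le.trans (map_le_range i P))).symm⟩
    exact ⟨T, rfl, isSylowIn_of_map hi hT⟩
  obtain ⟨F, _, _, _, Γ, l⟩ := h.lift
  refine ⟨(H7.isCharP_map_iff hi).mpr h.char, ⟨F, _, ‹_›, ‹_›, _, l.map hi⟩, fun T hT => ?_,
    fun T hT => ?_⟩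
  · obtain ⟨T, rfl, h1⟩ := k T hT
    obtain ⟨A, h2, h3⟩ := h.big T h1
    exact ⟨_, h2.map (by rw [(MonoidHom.ker_eq_bot_iff i).mpr hi, inf_bot_eq]), by
      rwa [← H7.map_pCoreOf_of_injective hi, map_le_map_iff_of_injective hi]⟩
  · obtain ⟨T, rfl, h1⟩ := k T hT
    rw [← map_ctr hi, map_le_centralizer_iff hi]
    exact h.nc T h1

variable [Finite X] [Fact p.Prime]

theorem relIndex_eq_qq (hT : H7.IsSylowIn p T P) : (pCoreOf p P).relIndex T = qq p P := by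
  rw [qq, ← hT.card_eq_pow, ← H7.relIndex_mul_card_of_le hT.pCoreOf_le,
    Nat.mul_div_cancel _ Nat.card_pos]

theorem relIndex_le_qq (hT : H7.IsSylowIn p T P) (h : A ≤ T) : (pCoreOf p P).relIndex A ≤ qq p P :=
  relIndex_eq_qq hT ▸ relIndex_le_of_le_right h (relIndex_pos _ _).ne'

theorem card_le_qq (hT : H7.IsSylowIn p T P) (h : A ≤ T) :
    Nat.card A ≤ qq p P * Nat.card ↥(A ⊓ pCoreOf p P) := by
  rw [← H7.relIndex_mul_card_inf (pCoreOf p P) A, inf_comm]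
  exact Nat.mul_le_mul_right _ (relIndex_le_qq hT h)

theorem sup_of_qq_le (hT : H7.IsSylowIn p T P) (h : A ≤ T)
    (h1 : qq p P ≤ (pCoreOf p P).relIndex A) : A ⊔ pCoreOf p P = T := by
  rw [← H7.relIndex_sup_of_le_normalizer ((h.trans hT.le).trans (H7.le_normalizer_pCoreOf p P)),
    ← relIndex_eq_qq hT] at h1
  refine H7.eq_of_le_of_card_le (sup_le h hT.pCoreOf_le) ?_
  rw [← H7.relIndex_mul_card_of_le hT.pCoreOf_le,
    ← H7.relIndex_mul_card_of_le (le_sup_right : pCoreOf p P ≤ A ⊔ _)]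
  exact Nat.mul_le_mul_right _ h1

theorem sup_of_card_le (hT : H7.IsSylowIn p T P) (h : A ≤ T)
    (h1 : qq p P * Nat.card ↥(A ⊓ pCoreOf p P) ≤ Nat.card A) : A ⊔ pCoreOf p P = T := by
  rw [← H7.relIndex_mul_card_inf (pCoreOf p P) A, inf_comm] at h1
  exact sup_of_qq_le hT h (Nat.le_of_mul_le_mul_right h1 Nat.card_pos)

theorem Loc.of_one (hc : H7.IsCharP p P) (l : ∃ (F : Type) (_ : Field F) (_ : Fintype F)
    (_ : CharP F p) (Γ : Subgroup (X × SL(2, F))), Lift p P Γ) (h0 : H7.IsSylowIn p T₀ P)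
    (h1 : ¬ JT 0 T₀ ≤ pCoreOf p P) (h2 : ¬ ctr T₀ ≤ centralizer (P : Set X)) : Loc p P := by
  refine ⟨hc, l, fun T hT => ?_, fun T hT hle => h2 ?_⟩
  · by_contra hn
    push Not at hn
    obtain ⟨g, hg, rfl⟩ := h0.exists_cj hT
    refine h1 (H8.JT_le_iff.mpr fun A hA => ?_)
    rw [← H7.cj_le_cj_iff (g := g), H7.cj_eq_of_mem_normalizer (H7.le_normalizer_pCoreOf p P hg)]
    exact hn _ (hA.cj g)
  · obtain ⟨g, hg, rfl⟩ := h0.exists_cj hT
    rwa [← H7.cj_eq_of_mem hg, ← H7.cj_centralizer, ctr, ← H7.cj_centralizer, ← H7.cj_inf,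
      H7.cj_le_cj_iff] at hle

namespace Loc

variable (h : Loc p P)
include h

theorem exists_gen (hT : H7.IsSylowIn p T P) : ∃ T', H7.IsSylowIn p T' P ∧ T ⊔ T' = P :=
  let ⟨_, _, _, _, _, l⟩ := h.lift; l.exists_gen hT

theorem exists_gen' (hT : H7.IsSylowIn p T P) : ∃ T', H7.IsSylowIn p T' P ∧ T' ⊔ T = P :=
  let ⟨T', h1, h2⟩ := h.exists_gen hT; ⟨T', h1, sup_comm T T' ▸ h2⟩

theorem exists_opp (hT : H7.IsSylowIn p T P) : ∃ g ∈ P, T ⊔ cj g T = P :=
  let ⟨_, h1, h2⟩ := h.exists_gen hT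
  let ⟨g, hg, e⟩ := hT.exists_cj h1
  ⟨g, hg, e ▸ h2⟩

theorem exists_frame (h₀ : H7.IsSylowIn p T₀ P) (h₁ : H7.IsSylowIn p T₁ P) (hs : T₀ ⊔ T₁ = P) :
    ∃ (F : Type) (_ : Field F) (_ : Fintype F) (_ : CharP F p) (Γ : Subgroup (X × SL(2, F))),
      Frame p P Γ T₀ T₁ ∧ Fintype.card F = qq p P :=
  let ⟨F, _, _, _, _, l⟩ := h.lift
  let ⟨Γ, f⟩ := l.exists_frame h₀ h₁ hs
  ⟨F, _, _, ‹_›, Γ, f, f.relIndex_Q.symm.trans (relIndex_eq_qq h₀)⟩

theorem exists_frame' (hT : H7.IsSylowIn p T P) :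
    ∃ (T' : Subgroup X) (F : Type) (_ : Field F) (_ : Fintype F) (_ : CharP F p)
      (Γ : Subgroup (X × SL(2, F))), Frame p P Γ T T' ∧ Fintype.card F = qq p P :=
  let ⟨T', h1, h2⟩ := h.exists_gen hT; ⟨T', h.exists_frame hT h1 h2⟩

theorem one_lt_qq : 1 < qq p P :=
  let ⟨_, hT⟩ := H7.exists_isSylowIn p P
  let ⟨_, _, _, _, _, _, _, e⟩ := h.exists_frame' hT
  e ▸ Fintype.one_lt_card

theorem not_le_Q (hT : H7.IsSylowIn p T P) : ¬ T ≤ pCoreOf p P :=
  let ⟨_, h1, h2⟩ := h.big T hT; fun hle => h2 (h1.le.trans hle)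

theorem comm_le_Q (hT : H7.IsSylowIn p T P) : ⁅T, T⁆ ≤ pCoreOf p P :=
  let ⟨_, _, _, _, _, _, f, _⟩ := h.exists_frame' hT; f.comm_le

theorem frat_le_Q (hT : H7.IsSylowIn p T P) : H7.frat T ≤ pCoreOf p P :=
  let ⟨_, _, _, _, _, _, f, _⟩ := h.exists_frame' hT
  (H7.frat_le_iff_of_isPGroup hT.isPGroup).mpr ⟨f.comm_le, fun _ ht => f.pow_mem_Q ht⟩

theorem residual_le (hT : H7.IsSylowIn p T P) (hn : P ≤ normalizer (N : Set X)) (h1 : A ≤ T)
    (h2 : A ≤ N) (hQ : ¬ A ≤ pCoreOf p P) : pResidualOf p P ≤ N :=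
  let ⟨_, _, _, _, _, _, f, _⟩ := h.exists_frame' hT
  let ⟨_, hx, h3⟩ := SetLike.not_le_iff_exists.mp hQ
  f.residual_le hn (h1 hx) (h2 hx) h3

theorem gen (h₀ : H7.IsSylowIn p T₀ P) (h₁ : H7.IsSylowIn p T₁ P) (hs : T₀ ⊔ T₁ = P) {x : X}
    (hx : x ∈ T₁) (hQ : x ∉ pCoreOf p P) (h1 : T₀ ≤ H) (h2 : x ∈ H) : P ≤ H :=
  let ⟨_, _, _, _, _, f, _⟩ := h.exists_frame h₀ h₁ hs; f.gen hx hQ h1 h2

theorem fmV : FM p P (ctr (pCoreOf p P)) :=
  ⟨inf_le_left, le_centralizer_iff.mp inf_le_right, le_normalizer_ctr (H7.le_normalizer_pCoreOf p P),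
    fun T hT hle => h.nc T hT ((le_inf (ctr_le_ctr_Q h.char hT) inf_le_right).trans hle)⟩

section
variable (m : FM p P V)
include m

theorem qp' {F : Type*} [Field F] [Fintype F] [CharP F p] {Γ : Subgroup (X × SL(2, F))}
    (f : Frame p P Γ T₀ T₁) : QP p (Fintype.card F) P T₀ T₁ V (V ⊓ centralizer (P : Set X))
    (V ⊓ centralizer (T₀ : Set X)) (V ⊓ centralizer (T₁ : Set X)) :=
  let ⟨_, hA, hAQ⟩ := h.big T₀ f.s₀
  f.ff' m.comm ((H7.isPGroup_pCoreOf p P).to_le m.le) m.n m.cen hA.le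
    (maxAb_best hA (m.le.trans f.s₀.pCoreOf_le) m.comm) hAQ (m.nc _ f.s₀)

theorem quad' (hT : H7.IsSylowIn p T P) : ⁅V, T⁆ ≤ centralizer (T : Set X) :=
  let ⟨_, _, _, _, _, _, f, _⟩ := h.exists_frame' hT; (h.qp' m f).a1.trans inf_le_right

theorem sup_cent' (h₀ : H7.IsSylowIn p T₀ P) (h₁ : H7.IsSylowIn p T₁ P) (hs : T₀ ⊔ T₁ = P) :
    V ⊓ centralizer (T₀ : Set X) ⊔ V ⊓ centralizer (T₁ : Set X) = V :=
  let ⟨_, _, _, _, _, f, _⟩ := h.exists_frame h₀ h₁ hs; (h.qp' m f).sup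

theorem idxZ' (hT : H7.IsSylowIn p T P) : qq p P ≤ (centralizer (T : Set X)).relIndex V := by
  obtain ⟨_, _, _, _, _, _, f, e⟩ := h.exists_frame' hT
  obtain ⟨C, c⟩ := (h.qp' m f).exists_natCo f
  rw [← inf_relIndex_left, ← e]
  exact c.le_relIndex

theorem cent' (hT : H7.IsSylowIn p T P) {x z : X} (hx : x ∈ T) (hQ : x ∉ pCoreOf p P)
    (hz : z ∈ V) (hc : ⁅x, z⁆ ∈ centralizer (P : Set X)) : z ∈ centralizer (T : Set X) := by
  obtain ⟨_, _, _, _, _, _, f, -⟩ := h.exists_frame' hT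
  obtain ⟨C, c⟩ := (h.qp' m f).exists_natCo f
  obtain ⟨b, hb⟩ := f.i₀.ex x hx
  have h1 := c.comm_u hx hb hz
  have h2 : ⁅x, z⁆ ∈ V := H8.commutatorElement_mem_of_normalizer (m.n (hT.le hx)) hz
  rw [(C.eq_zero _ h2).mpr ⟨h2, hc⟩] at h1
  have h3 : b * C.π z 1 = 0 := (congrFun h1 0).symm
  exact ((c.memA z hz).mpr ((mul_eq_zero.mp h3).resolve_left (mt (f.mem_Q_iff hx hb).mpr hQ))).2

theorem inf_cent' (hT : H7.IsSylowIn p T P) (hA : A ≤ T) (hQ : ¬ A ≤ pCoreOf p P) :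
    V ⊓ centralizer (A : Set X) ≤ centralizer (T : Set X) := fun z hz =>
  let ⟨x, hx, hx'⟩ := SetLike.not_le_iff_exists.mp hQ
  h.cent' m hT (hA hx) hx' hz.1 (by
    rw [commutatorElement_eq_one_iff_mul_comm.mpr (hz.2 x hx)]; exact one_mem _)

theorem not_le_C' (hT : H7.IsSylowIn p T P) : ¬ V ≤ centralizer (T : Set X) := fun hle => by
  have := h.idxZ' m hT
  rw [relIndex_eq_one.mpr hle] at this
  exact absurd h.one_lt_qq (not_lt.mpr this)

theorem not_comm_le' (hT : H7.IsSylowIn p T P) : ¬ ⁅V, T⁆ ≤ centralizer (P : Set X) :=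
  fun hle => by
    obtain ⟨x, hx, hQ⟩ := SetLike.not_le_iff_exists.mp (h.not_le_Q hT)
    exact h.not_le_C' m hT fun z hz => h.cent' m hT hx hQ hz
      (hle (H7.commutator_mem_commutator' hz hx))

theorem le_Q' (hT : H7.IsSylowIn p T P) (h1 : A ≤ T) (h2 : A ≤ centralizer (V : Set X)) :
    A ≤ pCoreOf p P := by_contra fun hQ =>
  h.not_le_C' m hT ((le_inf le_rfl (le_centralizer_iff.mp h2)).trans (h.inf_cent' m hT h1 hQ))

theorem card_sup_ge' (hT : H7.IsSylowIn p T P) (h1 : B ≤ pCoreOf p P)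
    (h2 : B ⊓ V ≤ centralizer (T : Set X)) : qq p P * Nat.card B ≤ Nat.card ↥(B ⊔ V) := by
  have h3 := H7.card_sup_mul_card_inf (H7.le_normalizer_of_le_centralizer (h1.trans m.cen))
  rw [← H7.relIndex_mul_card_inf (centralizer (T : Set X)) V] at h3
  refine Nat.le_of_mul_le_mul_right ?_ (Nat.card_pos (α := ↥(B ⊓ V)))
  rw [h3, mul_comm (qq p P), mul_assoc]
  exact Nat.mul_le_mul_left _ (Nat.mul_le_mul (h.idxZ' m hT) (card_le_of_le (le_inf h2 inf_le_right)))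

theorem repl' (hT : H7.IsSylowIn p T P) (hA : MaxAb 0 T A) (hQ : ¬ A ≤ pCoreOf p P) :
    A ⊔ pCoreOf p P = T ∧ MaxAb 0 T (A ⊓ pCoreOf p P ⊔ V) := by
  have h1 := h.card_sup_ge' m hT (B := A ⊓ pCoreOf p P) inf_le_right ((le_inf inf_le_right
    ((inf_le_left.trans inf_le_left).trans hA.comm)).trans (h.inf_cent' m hT hA.le hQ))
  have h2 : A ⊓ pCoreOf p P ⊔ V ≤ T := (sup_le inf_le_right m.le).trans hT.pCoreOf_le
  have h3 := sup_comm_of (comm_mono hA.comm (inf_le_left (b := pCoreOf p P))) m.comm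
    (inf_le_right.trans m.cen)
  exact ⟨sup_of_card_le hT hA.le (h1.trans (maxAb_card hA h2 h3)),
    maxAb_of_card hA h2 h3 ((card_le_qq hT hA.le).trans h1)⟩

theorem exists_nat' : ∃ (F : Type) (_ : Field F) (_ : Fintype F) (_ : CharP F p)
    (C : SecMap (Fin 2 → F) V (V ⊓ centralizer (P : Set X))), NatAct P C := by
  obtain ⟨_, hT⟩ := H7.exists_isSylowIn p P
  obtain ⟨_, F, _, _, _, _, f, -⟩ := h.exists_frame' hT
  obtain ⟨C, c⟩ := (h.qp' m f).exists_natCo f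
  exact ⟨F, _, ‹_›, ‹_›, C, f.natAct c inf_le_left⟩

theorem pow_cent' {v : X} (hv : v ∈ V) : v ^ p ∈ centralizer (P : Set X) := by
  obtain ⟨F, _, _, _, C, -⟩ := h.exists_nat' m
  refine ((C.eq_zero _ (pow_mem hv p)).mp ?_).2
  rw [C.map_pow hv]
  ext i
  simp

theorem comm_le_Zp' : ⁅V, P⁆ ≤ Zp p P := by
  refine commutator_le.mpr fun v hv g hg => ?_
  have h1 := (mem_normalizer_iff.mp (m.n hg) _).mp (inv_mem hv)
  have h2 : ⁅v, g⁆ = v * (g * v⁻¹ * g⁻¹) := by simp only [commutatorElement_def, mul_assoc]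
  have h3 := h2 ▸ mul_mem hv h1
  refine H7.mem_omegaOneCenter_iff.mpr ⟨m.le h3, le_centralizer_iff.mp m.cen h3, ?_⟩
  rw [h2, Commute.mul_pow (m.comm h1 v hv), conj_pow, inv_pow, inv_mem (h.pow_cent' m hv) g hg]
  simp

theorem le_sup_Zp' : V ≤ V ⊓ centralizer (P : Set X) ⊔ Zp p P := by
  obtain ⟨F, _, _, _, C, n⟩ := h.exists_nat' m
  exact (n.le_sup (nZp P) fun hle => n.not_comm_le ((le_inf
    (H7.commutator_le_left_of_le_normalizer m.n) (h.comm_le_Zp' m)).trans hle)).trans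
    (sup_le_sup_left inf_le_right _)

/-- a subgroup which is centralized modulo `V` by two opposite complements -/
theorem le_sup_cent' {W : Subgroup X} {g : X} (hT : H7.IsSylowIn p T P) (hg : g ∈ P)
    (hs : T ⊔ cj g T = P) (hY : Y ≤ T) (hn : g ∈ normalizer (W : Set X)) (h1 : V ≤ W)
    (h2 : W ≤ centralizer (V : Set X)) (h3 : W ≤ V ⊔ W ⊓ centralizer (Y : Set X)) :
    W ⊓ centralizer (Y : Set X) ≤
      V ⊓ centralizer (T : Set X) ⊔ W ⊓ centralizer ((Y ⊔ cj g Y : Subgroup X) : Set X) := by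
  intro w hw
  have h4 := H7.cj_mono (g := g) h3
  rw [H7.cj_sup, H7.cj_inf, H7.cj_centralizer, H7.cj_eq_of_mem_normalizer hn,
    H7.cj_eq_of_mem_normalizer (m.n hg)] at h4
  obtain ⟨v, hv, c, hc, rfl⟩ := (H7.mem_sup_of_le_normalizer' (H7.le_normalizer_of_le_centralizer
    (inf_le_left.trans h2))).mp (h4 hw.1)
  obtain ⟨a, ha, b, hb, rfl⟩ := (H7.mem_sup_of_le_normalizer (H7.le_normalizer_of_le_centralizer
    (inf_le_left.trans (m.comm.trans (H7.centralizer_anti inf_le_left))))).mp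
    ((h.sup_cent' m hT (hT.cj_of_mem hg) hs).ge hv)
  rw [mul_assoc] at hw ⊢
  refine mul_mem_sup ha ⟨mul_mem (h1 hb.1) hc.1, ?_⟩
  rw [H7.centralizer_sup]
  exact ⟨(mul_mem_cancel_left (H7.centralizer_anti hY ha.2)).mp hw.2,
    mul_mem (H7.centralizer_anti (H7.cj_mono hY) hb.2) hc.2⟩

end

theorem fmZ : FM p P (Zp p P) :=
  ⟨Zp_le P, Q_le_CZ P, nZp P, fun _ hT hle => h.not_comm_le' h.fmV hT ((le_inf
    ((commutator_mono le_rfl hT.le).trans (h.comm_le_Zp' h.fmV)) (h.quad' h.fmV hT)).trans hle)⟩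

theorem quad (hT : H7.IsSylowIn p T P) : ⁅Zp p P, T⁆ ≤ centralizer (T : Set X) := h.quad' h.fmZ hT

theorem cent (hT : H7.IsSylowIn p T P) {x z : X} (hx : x ∈ T) (hQ : x ∉ pCoreOf p P)
    (hz : z ∈ Zp p P) (hc : ⁅x, z⁆ ∈ centralizer (P : Set X)) : z ∈ centralizer (T : Set X) :=
  h.cent' h.fmZ hT hx hQ hz hc

theorem inf_cent (hT : H7.IsSylowIn p T P) (hA : A ≤ T) (hQ : ¬ A ≤ pCoreOf p P) :
    Zp p P ⊓ centralizer (A : Set X) ≤ centralizer (T : Set X) := h.inf_cent' h.fmZ hT hA hQ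

theorem not_comm_le (hT : H7.IsSylowIn p T P) : ¬ ⁅Zp p P, T⁆ ≤ centralizer (P : Set X) :=
  h.not_comm_le' h.fmZ hT

theorem le_Q (hT : H7.IsSylowIn p T P) (h1 : A ≤ T) (h2 : A ≤ centralizer (Zp p P : Set X)) :
    A ≤ pCoreOf p P := h.le_Q' h.fmZ hT h1 h2

theorem le_Zp (hT : H7.IsSylowIn p T P) (h1 : A ≤ T) (h2 : A ≤ centralizer (T : Set X))
    (h3 : ∀ a ∈ A, a ^ p = 1) : A ≤ Zp p P :=
  have h4 := (le_inf h1 h2).trans (ctr_le_ctr_Q h.char hT)
  H7.le_omegaOneCenter (h4.trans inf_le_left) (h4.trans inf_le_right) h3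

/-- a normal subgroup of the centre of a Sylow subgroup is central -/
theorem central (hT : H7.IsSylowIn p T P) (hn : P ≤ normalizer (N : Set X))
    (h1 : N ≤ centralizer (T : Set X)) : N ≤ centralizer (P : Set X) := by
  obtain ⟨g, hg, e⟩ := h.exists_opp hT
  rw [← e, H7.centralizer_sup, ← H7.cj_centralizer]
  exact le_inf h1 ((H7.cj_eq_of_mem_normalizer (hn hg)).ge.trans (H7.cj_mono h1))

end Loc

end Cfsg.H9
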