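import Cfsg.Agent.H9.GNCore

/-!
Pairs of characteristic subgroups for pushing up `PSL₂(F)`.
-/

set_option autoImplicit false
set_option linter.style.haveILetI false
set_option linter.unusedSectionVars false

namespace Cfsg.H9

open Subgroup
open Cfsg.H7 (cj mem_cj frat)
open Cfsg.H8 (MaxAb JT ZJ)
open scoped commutatorElement Pointwise

universe u v

variable {p : ℕ} [Fact p.Prime] {S : Type u} [Group S] [Finite S] {S₁ S₂ Q : Subgroup S}

variable (S) in
/-- the centralizer of `Z(J(S))` -/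
abbrev jtt : Subgroup S := centralizer
  ((thompsonSubgroupA S ⊓ centralizer (thompsonSubgroupA S : Set S) : Subgroup S) : Set S)

variable (p S) in
/-- the characteristic subgroup of Glauberman and Niles -/
noncomputable abbrev gnS : Subgroup S :=
  if p = 2 then ⁅frattini S, (⊤ : Subgroup S)⁆ ⊔ (frattini ↥(frattini S)).map (frattini S).subtype
  else if p = 3 then ⁅⁅frattini S, (⊤ : Subgroup S)⁆, (⊤ : Subgroup S)⁆ ⊔
    (frattini ↥(frattini S)).map (frattini S).subtype
  else ⁅frattini S, (⊤ : Subgroup S)⁆ ⊔ powerClosure p 1 (⊤ : Subgroup S)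

theorem ZJ_top_eq : ZJ 0 (⊤ : Subgroup S) =
    thompsonSubgroupA S ⊓ centralizer (thompsonSubgroupA S : Set S) := by
  rw [H8.ZJ_zero, H8.JT_zero_top]

theorem jtt_eq : jtt S = jt ⊤ := by rw [jt, top_inf_eq, ZJ_top_eq]

theorem ctr_top : ctr (⊤ : Subgroup S) = center S := by rw [ctr, top_inf_eq, H7.centralizer_top']

section map

variable {G : Type v} [Group G] [Finite G] {τ : S →* G} (hτ : Function.Injective τ)
include hτ

theorem map_center : (center S).map τ = ctr τ.range := by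
  rw [← ctr_top, map_ctr hτ, MonoidHom.range_eq_map]

theorem map_jtt : (jtt S).map τ = jt τ.range := by
  rw [jtt, ← ZJ_top_eq, jt, ← map_ZJ_top hτ]
  refine le_antisymm (le_inf (map_le_range _ _) ((map_le_centralizer_iff hτ).mpr le_rfl)) ?_
  rintro _ ⟨⟨x, rfl⟩, h⟩
  exact mem_map_of_mem τ fun y hy => hτ (by rw [map_mul, map_mul]; exact h _ (mem_map_of_mem τ hy))

omit hτ in
theorem map_powerClosure (n k : ℕ) (Q : Subgroup S) :
    (powerClosure n k Q).map τ = powerClosure n k (Q.map τ) := by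
  rw [powerClosure, powerClosure, MonoidHom.map_closure]
  congr 1
  ext y
  exact ⟨fun ⟨_, ⟨x, hx, e⟩, e'⟩ => ⟨τ x, mem_map_of_mem τ hx, by rw [← e', e, map_pow]⟩,
    fun ⟨_, ⟨x, hx, e⟩, e'⟩ => ⟨_, ⟨x, hx, rfl⟩, by rw [e', ← e, map_pow]⟩⟩

theorem map_mclJoin' : (minimalCentrallyLargeJoin S).map τ = sSup {R | MCLA τ.range R} := by
  rw [MonoidHom.range_eq_map]
  refine le_antisymm (map_le_iff_le_comap.mpr (sSup_le fun R hR => map_le_iff_le_comap.mp
    (le_sSup ((mcla_map_iff hτ).mpr (mcla_top_iff.mpr (H4.isMinimalCentrallyLarge_iff.mp hR))))))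
    (sSup_le fun R hR => ?_)
  obtain ⟨R, rfl⟩ := exists_eq_map hR.1.1
  exact map_mono (le_sSup (H4.isMinimalCentrallyLarge_iff.mpr
    (mcla_top_iff.mp ((mcla_map_iff hτ).mp hR))))

end map

theorem characteristic_of_map {N : Subgroup S} (f : Subgroup S → Subgroup S)
    (h : ∀ τ : S →* S, Function.Injective τ → N.map τ = f τ.range) : N.Characteristic :=
  characteristic_iff_map_eq.mpr fun φ => by
    rw [h _ φ.injective, MonoidHom.range_eq_top.mpr φ.surjective, ← MonoidHom.range_eq_top.mpr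
      (show Function.Surjective (MonoidHom.id S) from Function.surjective_id),
      ← h _ Function.injective_id, map_id]

instance characteristic_ZJ : (ZJ 0 (⊤ : Subgroup S)).Characteristic :=
  characteristic_of_map _ fun _ => map_ZJ_top

instance characteristic_jtt : (jtt S).Characteristic := characteristic_of_map _ fun _ => map_jtt

instance characteristic_mclJoin : (minimalCentrallyLargeJoin S).Characteristic :=
  characteristic_of_map (fun T => sSup {R | MCLA T R}) fun _ => map_mclJoin'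

instance characteristic_phiJoin : (frattiniOfMinimalCLJoin p S).Characteristic :=
  characteristic_of_map (fun T => ⨆ R : {R // MZ p T R}, frat R.1) fun _ => map_phiJoin

instance characteristic_powerClosure (n k : ℕ) [h : Q.Characteristic] :
    (powerClosure n k Q).Characteristic :=
  characteristic_iff_map_eq.mpr fun φ => by rw [map_powerClosure, characteristic_iff_map_eq.mp h φ]

instance characteristic_gnS : (gnS p S).Characteristic := by
  unfold gnS; split_ifs <;> infer_instance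

theorem powerClosure_le_iff {N : Subgroup S} : powerClosure p 1 Q ≤ N ↔ ∀ x ∈ Q, x ^ p ∈ N := by
  rw [powerClosure, closure_le, pow_one]
  exact ⟨fun h x hx => h ⟨x, hx, rfl⟩, fun h _ ⟨x, hx, e⟩ => e ▸ h x hx⟩

theorem three_lt_of (h2 : p ≠ 2) (h3 : p ≠ 3) : 3 < p := by
  have := (Fact.out : p.Prime).two_le
  omega

theorem gnS_le {C : Subgroup S} (h : Small p ⊤ C) : gnS p S ≤ C := by
  rw [Small, H7.frat_top] at h
  unfold gnS
  split_ifs with h2 h3
  · exact sup_le (h.2.2.1 (by omega)) h.1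
  · exact sup_le h.2.1 h.1
  · exact sup_le (h.2.2.1 h3) (powerClosure_le_iff.mpr (h.2.2.2 (three_lt_of h2 h3)))

theorem inf_center_ne_bot (hS : IsPGroup p S) {N : Subgroup S} [N.Normal] (h : N ≠ ⊥) :
    N ⊓ center S ≠ ⊥ := by
  rw [← H7.centralizer_top']
  exact H7.inf_centralizer_ne_bot (hS.to_subgroup ⊤) (hS.to_subgroup N) le_normalizer_of_normal h

/-- the conclusion of the theorems -/
def GNRes (p : ℕ) (S₁ S₂ : Subgroup S) : Prop :=
  S₁ ≠ ⊥ ∧ S₂ ≠ ⊥ ∧ S₁.Characteristic ∧ S₂.Characteristic ∧ S₁ ≤ center S ∧ S₂ ≤ jtt S ∧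
    (S₂.subgroupOf (jtt S)).Characteristic ∧ Pair p S₁ S₂

theorem res_jtt (h1 : S₁ ≠ ⊥) [h2 : S₁.Characteristic] (h3 : S₁ ≤ center S)
    (h4 : Pair p S₁ (jtt S)) : GNRes p S₁ (jtt S) :=
  ⟨h1, H7.ne_bot_of_le (h3.trans (center_le_centralizer _)) h1, h2, inferInstance, h3, le_rfl,
    by rw [subgroupOf_self]; infer_instance, h4⟩

theorem res_top (hJ : jtt S = ⊤) (h1 : S₁ ≠ ⊥) (h1' : S₂ ≠ ⊥) [h2 : S₁.Characteristic]
    [h2' : S₂.Characteristic] (h3 : S₁ ≤ center S) (h4 : Pair p S₁ S₂) : GNRes p S₁ S₂ := by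
  refine ⟨h1, h1', h2, h2', h3, hJ ▸ le_top, ?_, h4⟩
  rw [hJ]
  exact characteristic_iff_le_comap.mpr fun φ x hx => characteristic_iff_le_comap.mp h2'
    ((topEquiv.symm.trans φ).trans topEquiv) hx

theorem res_zj (hS : IsPGroup p S) (hJ : jtt S ≠ ⊤) :
    GNRes p (⁅ZJ 0 (⊤ : Subgroup S), ⊤⁆ ⊓ center S) (jtt S) := by
  refine res_jtt (inf_center_ne_bot hS fun e => hJ (eq_top_iff.mpr ?_)) inf_le_right
    fun G _ _ τ h1 h2 h3 => ?_
  · rw [jtt, ← ZJ_top_eq]; exact H7.commutator_eq_bot_iff'.mp e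
  · rw [map_inf _ _ _ h1, map_commutator, map_ZJ_top h1, map_center h1, map_jtt h1,
      ← MonoidHom.range_eq_map]
    exact h2.zj_pair h3

theorem res_pow (h : ¬ IsElementaryAbelian p (center S)) :
    GNRes p (powerClosure p 1 (center S)) (jtt S) := by
  refine res_jtt (fun e => h (H7.isElementaryAbelian_iff.mpr ⟨center_le_centralizer _,
    powerClosure_le_iff.mp e.le⟩)) (powerClosure_le _ _ _) fun G _ _ τ h1 h2 h3 => ?_
  rw [map_powerClosure, map_center h1, map_jtt h1]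
  exact h2.pow_pair h3

theorem res_comm [Nontrivial S] (h : center S = ⊤) : GNRes p (center S) (jtt S) := by
  refine res_jtt (h ▸ top_ne_bot) le_rfl fun G _ _ τ h1 h2 h3 => absurd ?_ (h2.not_le_Q h3)
  refine le_trans ?_ ((ctr_le_ctr_Q h2.char h3).trans inf_le_left)
  rw [← map_center h1, h, MonoidHom.range_eq_map]

theorem top_le_of_jtt (hJ : jtt S = ⊤) : ⊤ ≤ centralizer (ZJ 0 (⊤ : Subgroup S) : Set S) :=
  hJ.ge.trans (jtt_eq.le.trans inf_le_right)

theorem res_mcl (hS : IsPGroup p S) (hJ : jtt S = ⊤) (hQ : H4.MCL Q) (h : ⁅Q, Q⁆ ≠ ⊥) :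
    GNRes p (center S ⊓ ⁅Q, Q⁆) (minimalCentrallyLargeJoin S) := by
  haveI := mcl_commutator_characteristic hQ
  refine res_top hJ (inf_comm (center S) _ ▸ inf_center_ne_bot hS h) (H7.ne_bot_of_le
    ((H7.commutator_le_left_of_le_normalizer le_normalizer).trans
      (le_sSup (H4.isMinimalCentrallyLarge_iff.mpr hQ))) h) inf_le_left fun G _ _ τ h1 h2 h3 => ?_
  rw [map_inf _ _ _ h1, map_commutator, map_center h1, map_mclJoin' h1]
  exact h2.mcla_pair h3 (range_le_centralizer_ZJ h1 (top_le_of_jtt hJ))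
    (MonoidHom.range_eq_map τ ▸ (mcla_map_iff h1).mpr (mcla_top_iff.mpr hQ))

theorem res_phi [Nontrivial S] (hS : IsPGroup p S) (hJ : jtt S = ⊤)
    (h : frattiniOfMinimalCLJoin p S ≠ ⊥) : GNRes p (center S) (frattiniOfMinimalCLJoin p S) := by
  refine res_top hJ (top_inf_eq (center S) ▸ inf_center_ne_bot hS top_ne_bot) h le_rfl
    fun G _ _ τ h1 h2 h3 => ?_
  rw [map_center h1, map_phiJoin h1]
  exact h2.mz_pair h3 (range_le_centralizer_ZJ h1 (top_le_of_jtt hJ))

theorem res_gn (hS : IsPGroup p S) (hJ : jtt S = ⊤) (h : gnS p S ≠ ⊥) :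
    ∃ S₂ A, A ∈ maxAbelianSubgroups S ∧ A ≤ S₂ ∧ GNRes p (gnS p S ⊓ center S) S₂ := by
  obtain ⟨S₂, A, _, h1, h2, h3⟩ := exists_gn_pair (p := p) (S₁ := gnS p S ⊓ center S)
    (top_le_of_jtt hJ) (inf_le_right.trans ctr_top.ge) fun C hC => inf_le_left.trans (gnS_le hC)
  have h4 := inf_center_ne_bot hS h
  exact ⟨S₂, A, H8.maxAb_top_iff_A.mp h1, h2, res_top hJ h4 (H7.ne_bot_of_le ((maxAb_le h1 le_top
    (inf_le_right.trans (center_le_centralizer _))).trans h2) h4) inf_le_right h3⟩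

theorem maxCentralProduct_eq (hQ : H4.CL Q) (h : Q ≤ S₂) :
    maxCentralProduct S₂ = Nat.card Q * Nat.card (ctr Q) := by
  have h1 := (cla_top_iff.mpr hQ).mono h le_top
  obtain ⟨Q, rfl⟩ := exists_eq_map_subtype h
  rw [← H4.isCentrallyLarge_iff.mpr (cla_subtype_iff.mp h1), H4.card_center_eq,
    ← map_ctr S₂.subtype_injective, H7.card_map_subtype, H7.card_map_subtype]

/-- the exceptional groups -/
def GNExc (p : ℕ) (S : Type u) [Group S] : Prop :=
  ¬ IsMulCommutative S ∧ thompsonSubgroupA S = ⊤ ∧ IsElementaryAbelian p (center S) ∧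
    IsElementaryAbelian p (frattini S) ∧ (p = 2 → frattini S ≤ center S) ∧
    (p = 3 → frattini S ≤ Subgroup.upperCentralSeries S 2) ∧
    (3 < p → frattini S ≤ center S ∧ Monoid.exponent S = p) ∧
    (∀ A ∈ maxAbelianSubgroups S, ∀ B ∈ maxAbelianSubgroups S, ∀ Q : Subgroup S,
      Nat.card ↥A ^ 2 = Nat.card S * Nat.card ↥(center S) ∧
      Nat.card ↥Q * Nat.card ↥(center ↥Q) ≤ Nat.card S * Nat.card ↥(center S) ∧
      ((A ⊔ B : Subgroup S) : Set S) = (A : Set S) * (B : Set S) ∧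
      A ⊔ B = centralizer ((A ⊓ B : Subgroup S) : Set S))

theorem exists_res [Nontrivial S] (hS : IsPGroup p S) (h : ¬ GNExc p S) : ∃ S₁ S₂ : Subgroup S,
    GNRes p S₁ S₂ ∧ maxCentralProduct S₂ = maxCentralProduct (jtt S) := by
  by_cases hJ : jtt S = ⊤
  swap
  · exact ⟨_, _, res_zj hS hJ, rfl⟩
  by_cases h1 : center S = ⊤
  · exact ⟨_, _, res_comm h1, rfl⟩
  by_cases h2 : IsElementaryAbelian p (center S)
  swap
  · exact ⟨_, _, res_pow h2, rfl⟩
  have k : ∀ {Q S₂ : Subgroup S}, H4.CL Q → Q ≤ S₂ →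
      maxCentralProduct S₂ = maxCentralProduct (jtt S) := fun h3 h4 =>
    (maxCentralProduct_eq h3 h4).trans (maxCentralProduct_eq h3 (hJ ▸ le_top)).symm
  obtain ⟨Q, hQ⟩ := H4.exists_mcl (G := S)
  by_cases h3 : ⁅Q, Q⁆ = ⊥
  swap
  · exact ⟨_, _, res_mcl hS hJ hQ h3, k hQ.1 (le_sSup (H4.isMinimalCentrallyLarge_iff.mpr hQ))⟩
  have h4 : ∀ A ∈ maxAbelianSubgroups S, H4.CL A := fun A hA =>
    ((hQ.iff_maxAb (H7.commutator_eq_bot_iff'.mp h3)).mpr hA).1
  by_cases h5 : gnS p S = ⊥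
  swap
  · obtain ⟨S₂, A, h6, h7, h8⟩ := res_gn hS hJ h5
    exact ⟨_, _, h8, k (h4 A h6) h7⟩
  have h6 : H4.CL (thompsonSubgroupA S) := H4.CL.sSup H4.exists_maxAb h4
  have h7 : thompsonSubgroupA S = ⊤ := by
    rw [jtt, inf_eq_right.mpr h6.2, h6.1.cc] at hJ
    exact hJ
  have c1 : ∀ {N : Subgroup S}, ⁅N, ⊤⁆ = ⊥ → N ≤ center S := fun e => by
    rw [← H7.centralizer_top']
    exact le_centralizer_iff.mp (H7.commutator_eq_bot_iff'.mp e)
  have c2 := (frat_eq_bot_iff (hS.to_subgroup (frattini S))).mp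
  refine absurd ⟨fun hc => h1 (center_eq_top_iff.mpr hc), h7, h2, ?_, fun hp => ?_, fun hp => ?_,
    fun hp => ?_, fun A hA B hB R => ?_⟩ h
  · unfold gnS at h5
    split_ifs at h5
    · exact c2 (sup_eq_bot_iff.mp h5).2
    · exact c2 (sup_eq_bot_iff.mp h5).2
    · exact H7.ea_mono h2 (c1 (sup_eq_bot_iff.mp h5).1)
  · rw [gnS, if_pos hp] at h5
    exact c1 (sup_eq_bot_iff.mp h5).1
  · rw [gnS, if_neg (by omega), if_pos hp] at h5
    exact fun x hx => Subgroup.mem_upperCentralSeries_succ_iff.mpr fun y => by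
      rw [Subgroup.upperCentralSeries_one]
      exact c1 (sup_eq_bot_iff.mp h5).1 (commutator_mem_commutator hx (mem_top y))
  · rw [gnS, if_neg (by omega), if_neg (by omega)] at h5
    exact ⟨c1 (sup_eq_bot_iff.mp h5).1, (Monoid.exponent_eq_prime_iff Fact.out).mpr fun x hx =>
      orderOf_eq_prime (powerClosure_le_iff.mp (sup_eq_bot_iff.mp h5).2.le x (mem_top x)) hx⟩
  · have e1 := H4.centralizer_eq_of_maxAb hA
    have e2 := H4.centralizer_eq_of_maxAb hB
    have h8 := h6.1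
    simp only [H4.CDL, h7, H7.centralizer_top', card_top] at h8
    refine ⟨le_antisymm (by simpa only [e1, sq] using h8 A)
      (by simpa only [e1, sq, H7.centralizer_top', card_top] using (h4 A hA).1 ⊤),
      le_trans (Nat.mul_le_mul_left _ ?_) (h8 R), Set.Subset.antisymm (fun x hx => ?_) ?_,
      by rw [(h4 A hA).1.centralizer_inf (h4 B hB).1, e1, e2]⟩
    · rw [H4.card_center_eq]; exact card_le_of_le inf_le_right
    · obtain ⟨a, ha, b, hb, rfl⟩ := (h4 A hA).1.perm (h4 B hB).1 x hx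
      exact Set.mul_mem_mul ha hb
    · rintro _ ⟨a, ha, b, hb, rfl⟩
      exact mul_mem_sup ha hb

theorem Pair.of_equiv (h : Pair p S₁ S₂) (G : Type u) [Group G] [Finite G] (P : Subgroup G)
    (e : S ≃* P) (hP : IsPushingUpSituation p P) :
    (S₁.map (P.subtype.comp e.toMonoidHom)).Normal ∨ (S₂.map (P.subtype.comp e.toMonoidHom)).Normal :=
  h G _ (P.subtype_injective.comp e.injective) (RO.of_situation hP).1 (by
    rw [← MonoidHom.map_range, MonoidHom.range_eq_top.mpr e.surjective, H7.map_top_subtype]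
    exact (RO.of_situation hP).2)

end Cfsg.H9
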