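import Cfsg.Agent.H9.GNCL

/-!
Pushing up `PSL₂(F)`: the groups with one natural chief factor have small Sylow subgroups.
-/

set_option autoImplicit false
set_option linter.style.haveILetI false
set_option linter.unusedSectionVars false

namespace Cfsg.H9

open Subgroup Matrix
open Cfsg.H7 (cj mem_cj frat)
open Cfsg.H8 (SecMap MaxAb JT ZJ)
open scoped commutatorElement MatrixGroups

universe u v

variable {X : Type u} [Group X] {p : ℕ}
variable {P T D Y : Subgroup X}

/-- the characteristic subgroup of Glauberman and Niles lies in `C` -/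
def Small (p : ℕ) (T C : Subgroup X) : Prop :=
  frat (frat T) ≤ C ∧ ⁅⁅frat T, T⁆, T⁆ ≤ C ∧ (p ≠ 3 → ⁅frat T, T⁆ ≤ C) ∧
    (3 < p → ∀ t ∈ T, t ^ p ∈ C)

/-- the points of the geometry -/
structure GP (p : ℕ) (P : Subgroup X) : Prop extends Loc p P where
  ns : ∀ T, H7.IsSylowIn p T P → ¬ Small p T (centralizer (pResidualOf p P : Set X))

theorem GP.map {G : Type v} [Group G] [Finite G] {i : G →* X} (hi : Function.Injective i)
    {P : Subgroup G} (h : GP p P) : GP p (P.map i) := by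
  refine ⟨h.toLoc.map hi, fun T hT hs => ?_⟩
  obtain ⟨T, rfl⟩ := exists_eq_map hT.le
  refine h.ns T (isSylowIn_of_map hi hT) ?_
  simp only [Small, ← H7.map_pResidualOf_of_injective hi, ← map_frat hi, ← map_commutator,
    map_le_centralizer_iff hi] at hs
  refine ⟨hs.1, hs.2.1, hs.2.2.1, fun h3 t ht l hl => hi ?_⟩
  rw [map_mul, map_mul, map_pow]
  exact hs.2.2.2 h3 _ (mem_map_of_mem i ht) _ (mem_map_of_mem i hl)

variable [Finite X] [Fact p.Prime]

protected theorem GP.cj (h : GP p P) (g : X) : GP p (cj g P) := h.map (MulAut.conj g).injective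

theorem Loc.commutator_residual_le (h : Loc p P) (hT : H7.IsSylowIn p T P) {A B : Subgroup X}
    (hA : P ≤ normalizer (A : Set X)) (hB : P ≤ normalizer (B : Set X)) (hY : Y ≤ T)
    (hQ : ¬ Y ≤ pCoreOf p P) (h1 : ⁅A, Y⁆ ≤ B) : ⁅A, pResidualOf p P⁆ ≤ B :=
  (commutator_mono le_rfl (h.residual_le hT (H7.le_normalizer_stab hA hB) hY
    (H7.le_stab_iff.mpr ⟨(hY.trans hT.le).trans hB, h1⟩) hQ)).trans (H7.commutator_stab_le _ _)

theorem Loc.small (h : Loc p P) (hT : H7.IsSylowIn p T P) (eY : IsElementaryAbelian p Y)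
    (hs : Y ⊔ pCoreOf p P = T) (nD : P ≤ normalizer (D : Set X)) (hD : D ≤ pCoreOf p P)
    (hZ : Zp p P ≤ D) (h1 : ⁅pCoreOf p P, T⁆ ≤ D) (h2 : D ≤ Zp p P ⊔ D ⊓ centralizer (Y : Set X)) :
    Small p T (centralizer (pResidualOf p P : Set X)) := by
  have hY := le_sup_left.trans hs.le
  have hL := H7.pResidualOf_le p P
  have hQ := H7.pCoreOf_le p P
  have nQ := H7.le_normalizer_pCoreOf p P
  have pQ := H7.isPGroup_pCoreOf p P
  have nZ := nZp (p := p) P
  have a1 : ⁅D, pResidualOf p P⁆ ≤ Zp p P := h.commutator_residual_le hT nD nZ hY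
    (fun hle => h.not_le_Q hT (hs.ge.trans (sup_le hle le_rfl))) ((commutator_mono h2 le_rfl).trans
      (H7.sup_commutator_le le_normalizer ((inf_le_left.trans (hD.trans hQ)).trans nZ)
        (H7.commutator_le_left_of_le_normalizer ((hY.trans hT.le).trans nZ))
        (H7.commutator_le_of_le_centralizer (le_centralizer_iff.mp inf_le_right))))
  have a2 : ⁅pCoreOf p P, pResidualOf p P⁆ ≤ Zp p P :=
    (H7.commutator_commutator_pResidualOf pQ (hL.trans nQ)).ge.trans ((commutator_mono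
      (h.commutator_residual_le hT nQ nD le_rfl (h.not_le_Q hT) h1) le_rfl).trans a1)
  obtain ⟨C, hC⟩ : ∃ C, C = pCoreOf p P ⊓ centralizer (pResidualOf p P : Set X) := ⟨_, rfl⟩
  have CQ : C ≤ pCoreOf p P := hC ▸ inf_le_left
  have CL : C ≤ centralizer (pResidualOf p P : Set X) := hC ▸ inf_le_right
  have nC : P ≤ normalizer (C : Set X) := hC ▸ H7.le_normalizer_inf nQ
    (H7.le_normalizer_centralizer (H7.le_normalizer_pResidualOf p P))
  have b0 : ⁅⁅pCoreOf p P, pResidualOf p P⁆, pCoreOf p P⁆ ≤ ⊥ :=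
    (commutator_mono a2 le_rfl).trans (H7.commutator_le_of_le_centralizer (Q_le_CZ P))
  have b1 : ⁅pCoreOf p P, pCoreOf p P⁆ ≤ C := hC ▸ le_inf
    (H7.commutator_le_left_of_le_normalizer le_normalizer) (le_centralizer_iff.mp
      (H7.le_centralizer_of_commutator_le_bot (H7.three_subgroups le_normalizer_of_normal
        le_normalizer_of_normal le_normalizer_of_normal b0 (by rwa [commutator_comm (pResidualOf p P)]))))
  have b2 : ∀ u ∈ pCoreOf p P, u ^ p ∈ C := fun u hu => hC ▸ ⟨pow_mem hu p, fun l hl => by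
    have h3 := a2 (H7.commutator_mem_commutator' hu hl)
    have h4 : l * u * l⁻¹ = ⁅l, u⁆ * u := by simp only [commutatorElement_def]; group
    rw [← mul_inv_eq_iff_eq_mul, ← conj_pow, h4, Commute.mul_pow (Q_le_CZ P hu _ h3),
      (ea_Zp P).2 _ h3, one_mul]⟩
  have c1 : D ≤ C ⊔ Zp p P := by
    obtain ⟨g, hg, e⟩ := h.exists_opp hT
    refine h2.trans (sup_le le_sup_right ((h.le_sup_cent' h.fmZ hT hg e hY (nD hg) hZ
      (hD.trans (Q_le_CZ P)) h2).trans (sup_le (le_sup_of_le_right inf_le_left)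
      (le_sup_of_le_left (hC ▸ le_inf (inf_le_left.trans hD) (le_centralizer_iff.mp ?_))))))
    have e2 : Y ⊔ cj g Y ⊔ pCoreOf p P = P := by
      rw [sup_sup_distrib_right, hs, ← H7.cj_eq_of_mem_normalizer (nQ hg), ← H7.cj_sup, hs, e]
    refine (H7.pResidualOf_pResidualOf p P).ge.trans (H7.pResidualOf_le_centralizer (W := C)
      ((commutator_mono le_rfl (hL.trans e2.ge)).trans ?_)
      (H7.commutator_eq_bot_iff'.mpr (le_centralizer_iff.mp CL)) (pQ.to_le CQ))
    exact H7.commutator_sup_le ((le_sup_left.trans e2.le).trans nC) (hQ.trans nC)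
      (H7.commutator_le_of_le_centralizer (le_centralizer_iff.mp inf_le_right))
      ((commutator_mono (inf_le_left.trans hD) le_rfl).trans b1)
  have c2 : ⁅pCoreOf p P, P⁆ ≤ C ⊔ Zp p P := (commutator_mono le_rfl hT.sup_pResidualOf.ge).trans
    (H7.commutator_sup_le (hT.le.trans (H7.le_normalizer_sup nC nZ))
      (hL.trans (H7.le_normalizer_sup nC nZ)) (h1.trans c1) (a2.trans le_sup_right))
  obtain ⟨N, hN⟩ : ∃ N, N = C ⊔ Zp p P ⊓ centralizer (T : Set X) := ⟨_, rfl⟩
  have CN : C ≤ N := hN ▸ le_sup_left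
  have ZN : Zp p P ⊓ centralizer (T : Set X) ≤ N := hN ▸ le_sup_right
  have NQ : N ≤ pCoreOf p P := hN ▸ sup_le CQ (inf_le_left.trans (Zp_le P))
  have nN : T ≤ normalizer (N : Set X) := hN ▸ H7.le_normalizer_sup (hT.le.trans nC)
    (H7.le_normalizer_inf (hT.le.trans nZ) (H7.le_normalizer_centralizer le_normalizer))
  have d0 : ⁅Zp p P, T⁆ ≤ Zp p P ⊓ centralizer (T : Set X) :=
    le_inf (H7.commutator_le_left_of_le_normalizer (hT.le.trans nZ)) (h.quad hT)
  have d1 : ⁅pCoreOf p P, T⁆ ≤ N := by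
    rw [commutator_comm]
    refine commutator_le.mpr fun t ht u hu => ?_
    obtain ⟨M, _, ⟨S⟩⟩ := H8.exists_secMap CQ b1
    obtain ⟨a, ha⟩ := exists_act S nQ nC
    have cm : ∀ g ∈ P, ∀ u ∈ pCoreOf p P, ⁅g, u⁆ ∈ pCoreOf p P := fun g hg u hu =>
      H8.commutatorElement_mem_of_normalizer (nQ hg) hu
    have e0 : ∀ g ∈ P, ∀ u ∈ pCoreOf p P, a.ρ g (S.π u) = S.π u + S.π ⁅g, u⁆ := fun g hg u hu => by
      rw [S.map_commutator (nQ hg) hu, ha g hg u hu]; abel
    have e1 : ∀ g ∈ P, ∃ z ∈ Zp p P, S.π ⁅g, u⁆ = S.π z := fun g hg => by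
      obtain ⟨c, hc, z, hz, e⟩ := (H7.mem_sup_of_le_normalizer' (((Zp_le P).trans hQ).trans nC)).mp
        (c2 (H7.commutator_mem_commutator' hu hg))
      exact ⟨z, hz, by rw [← e, S.map_mul _ (CQ hc) _ (Zp_le P hz), (S.eq_zero _ (CQ hc)).mpr hc,
        zero_add]⟩
    have e2 : ∀ k ∈ pCoreOf p P, ∀ m, a.ρ k m = m := fun k hk m => by
      obtain ⟨x, hx, rfl⟩ := S.surj m
      rw [e0 k (hQ hk) x hx, (S.eq_zero _ (cm k (hQ hk) x hx)).mpr
        (b1 (commutator_mem_commutator hk hx)), add_zero]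
    have tP := hT.le ht
    obtain ⟨z, hz, e3⟩ := e1 t tP
    have zQ := Zp_le P hz
    refine (mul_mem_cancel_right (inv_mem ?_)).mp (CN ((S.eq_iff (cm t tP u hu) zQ).mp e3))
    by_cases hp : p = 2
    · subst hp
      by_cases tQ : t ∈ pCoreOf 2 P
      · rw [(S.eq_zero _ (cm t tP u hu)).mpr (b1 (commutator_mem_commutator tQ hu))] at e3
        exact CN ((S.eq_zero z zQ).mp e3.symm)
      have h3 := a.mul' tP tP (S.π u)
      rw [← sq, e2 _ (h.frat_le_Q hT (pow_mem_frat hT.isPGroup ht)), e0 t tP u hu, map_add,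
        e0 t tP u hu, e3, e0 t tP z zQ] at h3
      have h4 : 2 • S.π z = 0 := by rw [← S.map_pow zQ, (ea_Zp P).2 z hz, S.map_one]
      have h5 := (S.eq_zero _ (cm t tP z zQ)).mp (by linear_combination (norm := abel) -h3 - h4)
      refine ZN ⟨hz, h.cent hT ht tQ hz ?_⟩
      rw [← hT.sup_pResidualOf, H7.centralizer_sup]
      exact ⟨h.quad hT (H7.commutator_mem_commutator' hz ht), CL h5⟩
    obtain ⟨F, _, _, _, C', n⟩ := h.exists_nat' h.fmZ
    obtain ⟨g, hg, rg⟩ := n.surj (-1)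
    obtain ⟨M', rt⟩ := n.ex t tP
    have kP := mul_mem (mul_mem (mul_mem hg tP) (inv_mem hg)) (inv_mem tP)
    have kQ : g * t * g⁻¹ * t⁻¹ ∈ pCoreOf p P := by
      have h3 := ((rg.mul rt).mul rg.inv).mul rt.inv
      rw [show -1 * M' * (-1)⁻¹ * M'⁻¹ = 1 by simp] at h3
      refine le_Q_of_chain (N := P ⊓ H7.stab (Zp p P) (Zp p P ⊓ centralizer (P : Set X))) h.char
        inf_le_left (H7.le_normalizer_inf le_normalizer (H7.le_normalizer_stab nZ n.nV₀))
        ((commutator_mono le_rfl (H7.pResidualOf_mono inf_le_left)).trans a2)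
        (H7.commutator_le_left_of_le_normalizer (((H7.pResidualOf_le p _).trans inf_le_left).trans nZ))
        ((commutator_mono le_rfl ((H7.pResidualOf_le p _).trans inf_le_right)).trans
          (H7.commutator_stab_le _ _)) inf_le_right ⟨kP, n.nV₀ kP, fun x hx => ?_⟩
      rw [← inv_mem_iff, commutatorElement_inv]
      exact (SecMap.rel_one_iff h3.1).mp h3 x hx
    have h3 : a.ρ g (S.π z) = -S.π z := by
      have h4 := (mem_normalizer_iff.mp (nZ hg) z).mp hz
      rw [← ha g hg z zQ, ← S.map_inv zQ, S.eq_iff (Zp_le P h4) (inv_mem zQ), hC]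
      have h5 := (C'.eq_iff h4 (inv_mem hz)).mp (by rw [rg.2 z hz, C'.map_inv hz]; simp [neg_mulVec])
      exact ⟨Zp_le P h5.1, H7.centralizer_anti hL h5.2⟩
    obtain ⟨v, hv, e4⟩ := e1 g hg
    have h4 := a.mul' kP (mul_mem tP hg) (S.π u)
    rw [e2 _ kQ, show g * t * g⁻¹ * t⁻¹ * (t * g) = g * t by group, a.mul' hg tP, a.mul' tP hg,
      e0 t tP u hu, e0 g hg u hu, map_add, map_add, e3, e4, h3, e0 t tP u hu, e0 g hg u hu, e3, e4,
      e0 t tP v (Zp_le P hv)] at h4
    have h5 := d0 (H7.commutator_mem_commutator' hv ht)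
    refine H7.mem_of_pow_mem_of_pow_mem ((Nat.coprime_primes Nat.prime_two Fact.out).mpr (Ne.symm hp))
      ((mul_mem_cancel_right (ZN h5)).mp (CN ((S.eq_zero _ (mul_mem (pow_mem zQ 2)
        (Zp_le P h5.1))).mp ?_))) (CN (b2 z zQ))
    rw [S.map_mul _ (pow_mem zQ 2) _ (Zp_le P h5.1), S.map_pow zQ]
    linear_combination (norm := abel) -h4
  have d2 : ⁅N, T⁆ ≤ C := hN ▸ H7.sup_commutator_le ((CQ.trans hQ).trans nC)
    ((inf_le_left.trans ((Zp_le P).trans hQ)).trans nC)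
    (H7.commutator_le_left_of_le_normalizer (hT.le.trans nC))
    (H7.commutator_le_of_le_centralizer (le_centralizer_iff.mp inf_le_right))
  have d3 : ⁅T, T⁆ ≤ N := (commutator_mono hs.ge le_rfl).trans (H7.sup_commutator_le (hY.trans nN)
    (hT.pCoreOf_le.trans nN) ((commutator_mono le_rfl hs.ge).trans (H7.commutator_sup_le (hY.trans nN)
      (hT.pCoreOf_le.trans nN) (H7.commutator_le_of_le_centralizer (H7.ea_le_centralizer eY))
      (by rw [commutator_comm]; exact (commutator_mono le_rfl hY).trans d1))) d1)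
  have d4 : frat T ≤ N := by
    refine (H7.frat_le_iff_of_isPGroup hT.isPGroup).mpr ⟨d3, fun t ht => ?_⟩
    obtain ⟨M, _, ⟨S⟩⟩ := H8.exists_secMap (NQ.trans hT.pCoreOf_le) d3
    obtain ⟨y, hy, u, hu, rfl⟩ := (H7.mem_sup_of_le_normalizer ((hY.trans hT.le).trans nQ)).mp
      (hs.ge ht)
    have uT := hT.pCoreOf_le hu
    rw [← S.eq_zero _ (pow_mem ht p), S.map_pow ht, S.map_mul _ (hY hy) _ uT, smul_add,
      ← S.map_pow (hY hy), ← S.map_pow uT, eY.2 y hy, S.map_one,
      (S.eq_zero _ (pow_mem uT p)).mpr (CN (b2 u hu)), add_zero]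
  have d5 : ⁅frat T, T⁆ ≤ C := (commutator_mono d4 le_rfl).trans d2
  refine ⟨((frat_mono (pQ.to_le NQ) d4).trans ?_).trans CL, ((commutator_mono d5 le_rfl).trans
    (H7.commutator_le_left_of_le_normalizer (hT.le.trans nC))).trans CL, fun _ => d5.trans CL,
    fun h3 t ht => CL ?_⟩
  · rw [hN, frat_sup_ea (hN ▸ pQ.to_le NQ) (inf_le_right.trans (H7.centralizer_anti
      (CQ.trans hT.pCoreOf_le))) (H7.ea_mono (ea_Zp P) inf_le_left)]
    exact H7.frat_le C
  · have hp := (Fact.out : p.Prime).dvd_choose_self (k := 2) (by decide) (by omega)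
    have h4 : T.lowerCentralSeries 2 ≤ C := (commutator_mono d3 le_rfl).trans d2
    exact (sup_le (α := Subgroup X) (c := powSub (hT.le.trans nC) h4 hp)
      (fun y hy => ⟨hY hy, by rw [eY.2 y hy]; exact one_mem _⟩)
      (fun u hu => ⟨hT.pCoreOf_le hu, b2 u hu⟩) (hs.ge ht)).2

end Cfsg.H9
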