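import Cfsg.Agent.H9.GNFar

/-!
Pushing up `PSL₂(F)` simultaneously in several groups: critical distance two.
-/

set_option autoImplicit false
set_option linter.style.haveILetI false
set_option linter.unusedSectionVars false

namespace Cfsg.H9.GN

open Subgroup Matrix
open Cfsg.H7 (cj mem_cj frat)
open Cfsg.H3 (U Lo)
open Cfsg.H8 (SecMap)
open scoped commutatorElement MatrixGroups

universe u

variable {X : Type u} [Group X] {p : ℕ}
variable {α β γ δ T T₀ T₁ T₂ K Y : Subgroup X}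

/-- a vertex in the middle of a critical path of length two -/
structure VX (p : ℕ) (δ α T₀ β T₁ : Subgroup X) : Prop where
  g : Good p δ T₀ α
  o : On p δ T₁ β
  s : T₀ ⊔ T₁ = δ
  nc : ¬ Zp p β ≤ pCoreOf p α

variable [Finite X] [Fact p.Prime]

theorem VX.crit (d : CD X p 2) (v : VX p δ α T₀ β T₁) : Crit p α T₀ β T₁ :=
  d.crit v.g.on.symm v.o.near v.o.symm v.g.on.symm.near v.nc

variable (d : CD X p 2)
include d

theorem exists_vx : ∃ δ α T₀ β T₁ : Subgroup X, VX p δ α T₀ β T₁ := by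
  obtain ⟨δ, e⟩ := d.exists_end
  obtain ⟨T₁, γ, β, h1, h2, h3⟩ := id e
  obtain ⟨T', β', h4, h5⟩ := h2.last
  obtain rfl := h5.eq
  obtain ⟨T₀, s0, e0⟩ := h1.l.exists_gen' h1.sl
  obtain ⟨α, g⟩ := d.exists_good e s0
  obtain ⟨_, c⟩ := d.step (d.crit h1 h2 h4 h1.near h3) h4 h1.near e0 g
  exact ⟨δ, α, T₀, γ, T₁, g, h1, e0, c.nc⟩

variable (v : VX p δ α T₀ β T₁)
include v

theorem vx_next : ∃ γ T₂, VX p β γ T₂ δ T₁ := by
  obtain ⟨T₂, s2, e2⟩ := v.o.r.exists_gen' v.o.sr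
  obtain ⟨γ, g⟩ := d.exists_good ⟨_, _, _, v.o.symm, v.g.on.near, (v.crit d).symm.nc⟩ s2
  obtain ⟨_, c⟩ := d.step (v.crit d).symm v.g.on.symm v.o.symm.near e2 g
  exact ⟨γ, T₂, g, v.o.symm, e2, c.nc⟩

theorem vx_prev : ∃ γ T₂, VX p α γ T₂ δ T₀ := by
  obtain ⟨T₂, s2, e2⟩ := v.g.on.r.exists_gen' v.g.on.sr
  obtain ⟨γ, g⟩ := d.exists_good ⟨_, _, _, v.g.on.symm, v.o.near, v.nc⟩ s2
  obtain ⟨_, c⟩ := d.step (v.crit d) v.o.symm v.g.on.symm.near e2 g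
  exact ⟨γ, T₂, g, v.g.on.symm, e2, c.nc⟩

theorem vx_T₁ : Zp p α ⊔ pCoreOf p β = T₁ := (v.crit d).symm.sup

theorem vx_T₀ : Zp p β ⊔ pCoreOf p α = T₀ := (v.crit d).sup

theorem vx_nc : ¬ Zp p α ≤ pCoreOf p β := (v.crit d).symm.nc

theorem vx_comm : ⁅pCoreOf p δ, Zp p α⁆ ≤ Zp p β := by
  rw [commutator_comm]
  exact (commutator_mono le_rfl v.g.on.sl.pCoreOf_le).trans (v.crit d).comm_le

theorem vx_inf₁ (hK : K ≤ T₁) (h1 : Zp p α ≤ K) : Zp p α ⊔ pCoreOf p β ⊓ K = K := by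
  rw [← H7.dedekind_left h1 ((v.crit d).zr.trans v.o.symm.nQ), vx_T₁ d v]
  exact inf_eq_right.mpr hK

theorem vx_inf₀ (hK : K ≤ T₀) (h1 : Zp p β ≤ K) : Zp p β ⊔ pCoreOf p α ⊓ K = K := by
  rw [← H7.dedekind_left h1 ((v.crit d).zl.trans v.g.on.symm.nQ), vx_T₀ d v]
  exact inf_eq_right.mpr hK

theorem vx_QQ : ⁅pCoreOf p δ, pCoreOf p δ⁆ ≤ pCoreOf p α ⊓ pCoreOf p δ ⊓ pCoreOf p β :=
  le_inf (le_inf ((commutator_mono v.g.on.sl.pCoreOf_le v.g.on.sl.pCoreOf_le).trans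
    (v.g.on.r.comm_le_Q v.g.on.sr)) (H7.commutator_le_left_of_le_normalizer le_normalizer))
    ((commutator_mono v.o.sl.pCoreOf_le v.o.sl.pCoreOf_le).trans (v.o.r.comm_le_Q v.o.sr))

theorem vx_ZD : Zp p δ ≤ pCoreOf p α ⊓ pCoreOf p δ ⊓ pCoreOf p β :=
  le_inf (le_inf (d.adj v.g.on) (Zp_le δ)) (d.adj v.o)

omit v in
theorem vx_side {D : Subgroup X} (w : VX p β γ T₂ δ T₁) (h1 : Zp p δ ≤ D)
    (h2 : D ≤ pCoreOf p β ⊓ pCoreOf p δ) (h3 : ⁅pCoreOf p δ, pCoreOf p δ⁆ ≤ D) :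
    T₁ ≤ normalizer (D : Set X) ∧ ⁅pCoreOf p β ⊓ pCoreOf p δ, T₁⁆ ≤ D := by
  have k1 : ⁅pCoreOf p β ⊓ pCoreOf p δ, Zp p γ⁆ ≤ D :=
    (commutator_mono inf_le_left le_rfl).trans ((vx_comm d w).trans h1)
  have k2 : ⁅pCoreOf p β ⊓ pCoreOf p δ, pCoreOf p δ⁆ ≤ D :=
    (commutator_mono inf_le_right le_rfl).trans h3
  have n1 := H7.le_normalizer_of_commutator_le h2 k1
  have n2 := H7.le_normalizer_of_commutator_le h2 k2
  rw [← vx_T₁ d w]
  exact ⟨sup_le n1 n2, H7.commutator_sup_le n1 n2 k1 k2⟩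

theorem vx_sides : (T₁ ≤ normalizer ((pCoreOf p α ⊓ pCoreOf p δ ⊓ pCoreOf p β : Subgroup X) : Set X) ∧
    ⁅pCoreOf p β ⊓ pCoreOf p δ, T₁⁆ ≤ pCoreOf p α ⊓ pCoreOf p δ ⊓ pCoreOf p β) ∧
    T₀ ≤ normalizer ((pCoreOf p α ⊓ pCoreOf p δ ⊓ pCoreOf p β : Subgroup X) : Set X) ∧
    ⁅pCoreOf p α ⊓ pCoreOf p δ, T₀⁆ ≤ pCoreOf p α ⊓ pCoreOf p δ ⊓ pCoreOf p β :=
  let ⟨_, _, w⟩ := vx_next d v
  let ⟨_, _, w'⟩ := vx_prev d v
  ⟨vx_side d w (vx_ZD d v) (le_inf inf_le_right (inf_le_left.trans inf_le_right)) (vx_QQ d v),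
    vx_side d w' (vx_ZD d v) inf_le_left (vx_QQ d v)⟩

theorem vx_nD : δ ≤ normalizer ((pCoreOf p α ⊓ pCoreOf p δ ⊓ pCoreOf p β : Subgroup X) : Set X) :=
  v.s.ge.trans (sup_le (vx_sides d v).2.1 (vx_sides d v).1.1)

theorem vx_res : ⁅pCoreOf p α ⊓ pCoreOf p δ ⊓ pCoreOf p β, pResidualOf p δ⁆ ≤ Zp p δ := by
  obtain ⟨γ, T₂, w⟩ := vx_next d v
  exact (commutator_mono le_rfl (v.o.l.residual_le v.o.sl (H7.le_normalizer_stab
    (vx_nD d v) (nZp δ)) (w.crit d).zr (H7.le_stab_iff.mpr ⟨(w.crit d).zr.trans v.o.nZ,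
      (commutator_mono inf_le_right le_rfl).trans (vx_comm d w)⟩) (vx_nc d w))).trans
    (H7.commutator_stab_le _ _)

theorem vx_qp {q : ℕ} (hq : qq p α ≤ q) : QP p q δ T₁ T₀ (pCoreOf p δ) (pCoreOf p α ⊓ pCoreOf p δ ⊓ pCoreOf p β)
    (pCoreOf p β ⊓ pCoreOf p δ) (pCoreOf p α ⊓ pCoreOf p δ) := by
  have e : pCoreOf p α ⊓ pCoreOf p δ ⊓ pCoreOf p β = pCoreOf p β ⊓ pCoreOf p δ ⊓ pCoreOf p α := by
    rw [inf_comm _ (pCoreOf p β), inf_comm (pCoreOf p α), inf_assoc]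
  refine ⟨H7.le_normalizer_pCoreOf p δ, vx_nD d v, e.le.trans inf_le_left, inf_le_left,
    le_antisymm (sup_le inf_le_right inf_le_right) ((vx_inf₁ d v v.o.sl.pCoreOf_le
      (d.adj v.g.on.symm)).ge.trans (sup_le (le_sup_of_le_right (le_inf (Zp_le α)
        (d.adj v.g.on.symm))) le_sup_left)), le_inf inf_le_right (inf_le_left.trans inf_le_left),
    vx_QQ d v, vx_QQ d v, le_inf ((commutator_mono v.o.sl.pCoreOf_le le_rfl).trans
      (v.o.r.comm_le_Q v.o.sr)) (H7.commutator_le_left_of_le_normalizer v.o.nQ),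
    (vx_sides d v).1.2, le_inf ((commutator_mono v.g.on.sl.pCoreOf_le le_rfl).trans
      (v.g.on.r.comm_le_Q v.g.on.sr)) (H7.commutator_le_left_of_le_normalizer v.g.on.nQ),
    (vx_sides d v).2.2, ?_, ?_, fun hle => v.g.nn ?_⟩
  · rw [e, inf_relIndex_left]
    exact (relIndex_le_qq v.g.on.sr (inf_le_right.trans v.g.on.sl.pCoreOf_le)).trans hq
  · rw [inf_relIndex_left]
    exact (relIndex_le_qq v.o.sr (inf_le_right.trans v.o.sl.pCoreOf_le)).trans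
      ((v.crit d).qq_eq.ge.trans hq)
  · have hL := H7.pResidualOf_le p δ
    have h1 : ⁅pCoreOf p δ, pResidualOf p δ⁆ ≤ Zp p δ := by
      rw [← H7.commutator_commutator_pResidualOf (H7.isPGroup_pCoreOf p δ)
        (hL.trans (H7.le_normalizer_pCoreOf p δ))]
      exact (commutator_mono ((commutator_mono le_rfl hL).trans hle) le_rfl).trans (vx_res d v)
    refine v.g.on.sl.sup_pResidualOf.ge.trans (sup_le (H7.le_normalizer_sup v.g.on.symm.nZ v.g.on.nZ)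
      (H7.le_normalizer_of_commutator_le (sup_le (d.adj v.g.on.symm) (Zp_le δ))
        (h1.trans le_sup_right)))

theorem vx_le (hq : qq p α ≤ qq p δ) : qq p δ ≤ qq p β := by
  obtain ⟨F, _, _, _, Γ, f, e⟩ := v.o.l.exists_frame v.o.sl v.g.on.sl (sup_comm T₀ T₁ ▸ v.s)
  obtain ⟨C, c⟩ := (vx_qp d v (hq.trans e.ge)).exists_natCo f
  have := c.le_relIndex
  rw [inf_relIndex_right, e] at this
  exact this.trans (relIndex_le_qq v.o.sr v.o.sl.pCoreOf_le)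

theorem vx_qq : qq p α ≤ qq p δ := by
  obtain ⟨γ, T₂, w⟩ := vx_next d v
  refine (le_total _ _).elim id fun h => ?_
  exact (v.crit d).qq_eq.le.trans (vx_le d w ((w.crit d).qq_eq.le.trans
    (h.trans (v.crit d).qq_eq.le)))

theorem vx_cent {t u : X} (ht : t ∈ T₁) (hQ : t ∉ pCoreOf p δ) (hu : u ∈ pCoreOf p δ)
    (h1 : ⁅t, u⁆ ∈ pCoreOf p α ⊓ pCoreOf p δ ⊓ pCoreOf p β) : u ∈ pCoreOf p β := by
  obtain ⟨F, _, _, _, Γ, f, eq⟩ := v.o.l.exists_frame v.o.sl v.g.on.sl (sup_comm T₀ T₁ ▸ v.s)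
  obtain ⟨C, c⟩ := (vx_qp d v ((vx_qq d v).trans eq.ge)).exists_natCo f
  obtain ⟨b, hb⟩ := f.i₀.ex t ht
  have h2 := c.comm_u ht hb hu
  rw [(C.eq_zero _ h1.1.2).mpr h1] at h2
  have h3 : b * C.π u 1 = 0 := (congrFun h2 0).symm
  exact ((c.memA u hu).mpr ((mul_eq_zero.mp h3).resolve_left (mt (f.mem_Q_iff ht hb).mpr hQ))).1

theorem vx_base {F : Type} [Field F] [Fintype F] [CharP F p] {Γ : Subgroup (X × SL(2, F))} (f : Frame p δ Γ T₁ T₀) {C : SecMap (Fin 2 → F) (Zp p δ) (Zp p δ ⊓ centralizer δ)}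
    {C' : SecMap (Fin 2 → F) (pCoreOf p δ) (pCoreOf p α ⊓ pCoreOf p δ ⊓ pCoreOf p β)}
    {A B A' B' : Subgroup X} (c : NatCo Γ T₁ T₀ C A B) (c' : NatCo Γ T₁ T₀ C' A' B') :
    PUBase p δ (pCoreOf p α ⊓ pCoreOf p δ ⊓ pCoreOf p β) C := by
  refine ⟨f.natAct c inf_le_left, fun g hg => ⟨fun h1 => ?_, fun h1 => ?_⟩, inf_le_right,
    vx_ZD d v, inf_le_left.trans inf_le_right, vx_nD d v, vx_res d v⟩
  · have hN : lker (jg δ C C') ≤ δ := fun x hx => hx.1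
    obtain ⟨M, h2⟩ := f.jg_ex c c' hg
    obtain rfl := h2.2.1.unique h1
    exact le_Q_of_chain v.o.l.char hN (f.norm_jg c c')
      (commutator_le_of_rel_one fun x hx => (H7.pResidualOf_le p _ hx).2.2)
      ((commutator_mono le_rfl (H7.pResidualOf_mono hN)).trans (vx_res d v))
      (commutator_le_of_rel_one fun x hx => (H7.pResidualOf_le p _ hx).2.1) inf_le_right h2
  · refine (SecMap.rel_one_iff (nZp δ hg)).mpr fun x hx => ?_
    rw [commutatorElement_eq_one_iff_mul_comm.mpr (Q_le_CZ δ h1 x hx).symm]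
    exact one_mem _

variable (v' : VX p β γ T₂ δ T₁)
include v'

theorem vx_cubic {x w : X} (hx : x ∈ Zp p α) (hx' : x ∉ pCoreOf p β) (hw : w ∈ Zp p γ)
    (hw' : w ∉ pCoreOf p δ) :
    ⁅w, ⁅w, x⁆⁆ ∈ Zp p δ ⊓ centralizer (T₁ : Set X) ∧ ⁅w, ⁅w, x⁆⁆ ∉ centralizer (δ : Set X) := by
  have xT := (v.crit d).zr hx
  have wT := (v'.crit d).zr hw
  have h1 : ⁅w, x⁆ ∈ pCoreOf p δ ⊓ pCoreOf p β :=
    ⟨v.o.l.comm_le_Q v.o.sl (commutator_mem_commutator wT xT),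
      v.o.r.comm_le_Q v.o.sr (commutator_mem_commutator wT xT)⟩
  have h2 : ⁅w, x⁆ ∉ pCoreOf p γ := fun hm => hw' (vx_cent d v' xT hx' (d.adj v'.g.on.symm hw) (by
    rw [← inv_mem_iff, commutatorElement_inv]; exact ⟨⟨hm, h1.2⟩, h1.1⟩))
  obtain ⟨z, hz, e, he, h3⟩ := (H7.mem_sup_of_le_normalizer' (H7.le_normalizer_of_le_centralizer
    ((inf_le_right.trans inf_le_left).trans (Q_le_CZ δ)))).mp ((vx_inf₀ d v'
      (inf_le_right.trans v'.g.on.sl.pCoreOf_le) (le_inf (Zp_le δ) (d.adj v.o))).ge h1)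
  have h4 : ⁅w, ⁅w, x⁆⁆ = ⁅w, z⁆ := by
    rw [← h3]
    calc ⁅w, z * e⁆ = w * z * (e * w⁻¹ * e⁻¹) * z⁻¹ := by simp only [commutatorElement_def]; group
      _ = _ := by rw [← Q_le_CZ γ he.1 _ (inv_mem hw), mul_inv_cancel_right, commutatorElement_def]
  have h5 : ⁅w, z⁆ ∈ ⁅Zp p δ, T₁⁆ := H7.commutator_mem_commutator' hz wT
  rw [h4]
  refine ⟨⟨H7.commutator_le_left_of_le_normalizer v.o.nZ h5, v.o.l.quad v.o.sl h5⟩,
    fun hm => h2 (h3 ▸ mul_mem ?_ he.1)⟩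
  exact v'.g.on.r.le_Q v'.g.on.sr (zpowers_le_of_mem (v'.g.on.sl.pCoreOf_le (d.adj v.o hz)))
    (zpowers_le_of_mem (H7.centralizer_anti (v'.crit d).zr
      (v.o.l.cent v.o.sl wT hw' hz hm))) (mem_zpowers z)

theorem vx_three : p = 3 := by
  obtain ⟨F, _, _, _, Γ, f, eq⟩ := v.o.l.exists_frame v.o.sl v.g.on.sl (sup_comm T₀ T₁ ▸ v.s)
  obtain ⟨C, c⟩ := (v.o.l.qp' v.o.l.fmZ f).exists_natCo f
  obtain ⟨C', c'⟩ := (vx_qp d v ((vx_qq d v).trans eq.ge)).exists_natCo f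
  have base := vx_base d v f c c'
  obtain ⟨x, hx, hx'⟩ := SetLike.not_le_iff_exists.mp (vx_nc d v)
  obtain ⟨w, hw, hw'⟩ := SetLike.not_le_iff_exists.mp (vx_nc d v')
  obtain ⟨hr, hr'⟩ := vx_cubic d v v' hx hx' hw hw'
  have wT := (v'.crit d).zr hw
  have wP := v.o.sl.le wT
  have nC : δ ≤ normalizer ((Zp p δ ⊓ centralizer (δ : Set X) : Subgroup X) : Set X) :=
    H7.le_normalizer_inf (nZp δ) (H7.le_normalizer_centralizer le_normalizer)
  obtain ⟨W, hW⟩ : ∃ W, W = pCoreOf p δ ⊓ H7.stab (pCoreOf p δ) (Zp p δ ⊓ centralizer (δ : Set X)) :=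
    ⟨_, rfl⟩
  have nW : δ ≤ normalizer (W : Set X) := hW ▸ H7.le_normalizer_inf (H7.le_normalizer_pCoreOf p δ)
    (H7.le_normalizer_stab (H7.le_normalizer_pCoreOf p δ) nC)
  have WQ : W ≤ pCoreOf p δ := hW ▸ inf_le_left
  have cW : ⁅pCoreOf p δ, W⁆ ≤ Zp p δ ⊓ centralizer (δ : Set X) :=
    (commutator_mono le_rfl (hW ▸ inf_le_right)).trans (H7.commutator_stab_le _ _)
  have leW : ∀ A ≤ pCoreOf p δ, ⁅pCoreOf p δ, A⁆ ≤ Zp p δ ⊓ centralizer (δ : Set X) → A ≤ W :=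
    fun A h1 h2 => hW ▸ le_inf h1 (H7.le_stab_iff.mpr ⟨(h1.trans (H7.pCoreOf_le p δ)).trans nC, h2⟩)
  have ZW : Zp p δ ≤ W := leW _ (Zp_le δ)
    (H7.commutator_le_of_le_centralizer (le_centralizer_iff.mp (Q_le_CZ δ)))
  have xW : x ∈ W := by
    refine leW _ (d.adj v.g.on.symm) ?_ hx
    have h1 : ⁅Zp p α, T₀⁆ ≤ Zp p α := H7.commutator_le_left_of_le_normalizer v.g.on.symm.nZ
    have h2 := d.central ⟨_, _, _, v.o, v'.g.on.near, vx_nc d v'⟩ v.g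
    rw [commutator_comm]
    exact (commutator_mono le_rfl v.g.on.sl.pCoreOf_le).trans (le_inf (H7.le_omegaOneCenter
      (h1.trans (d.adj v.g.on.symm)) (h2.trans (H7.centralizer_anti (H7.pCoreOf_le p δ)))
      fun y hy => (ea_Zp α).2 y (h1 hy)) h2)
  obtain ⟨M, _, ⟨S⟩⟩ := H8.exists_secMap (inf_le_left.trans ZW)
    ((commutator_mono WQ le_rfl).trans cW)
  obtain ⟨a, ha⟩ := exists_act S nW nC
  have cm : ∀ u ∈ W, ⁅w, u⁆ ∈ W := fun u hu => H8.commutatorElement_mem_of_normalizer (nW wP) hu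
  have e0 : ∀ u ∈ W, a.ρ w (S.π u) = S.π u + S.π ⁅w, u⁆ := fun u hu => by
    rw [S.map_commutator (nW wP) hu, ha w wP u hu]; abel
  have e1 := e0 x xW
  have e2 := e0 _ (cm x xW)
  have e3 := e0 _ (cm _ (cm x xW))
  rw [commutatorElement_eq_one_iff_mul_comm.mpr (hr.2 w wT), S.map_one, add_zero] at e3
  have r0 : S.π ⁅w, ⁅w, x⁆⁆ ≠ 0 := fun e => hr' ((S.eq_zero _ (ZW hr.1)).mp e).2
  have p1 : p • S.π x = 0 := by rw [← S.map_pow xW, (ea_Zp α).2 x hx, S.map_one]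
  have p2 : p • S.π ⁅w, x⁆ = 0 := by
    have := congrArg (p • ·) e1
    simpa only [← map_nsmul, p1, map_zero, smul_add, zero_add, eq_comm (a := (0 : M))] using this
  have p3 : p • S.π ⁅w, ⁅w, x⁆⁆ = 0 := by rw [← S.map_pow (ZW hr.1), (ea_Zp δ).2 _ hr.1, S.map_one]
  have wp : w ^ p = 1 := (ea_Zp γ).2 w hw
  have hp : p = 3 := by
    by_cases h2 : p = 2
    · subst h2
      have h3 := a.mul' wP wP (S.π x)
      rw [← sq, wp, a.one, e1, map_add, e1, e2, Module.End.one_apply] at h3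
      exact absurd (by linear_combination (norm := abel) -p2 - h3) r0
    have h2' : (2 : F) ≠ 0 := H8.two_ne_zero_of_charP h2 F
    obtain ⟨g, hg, g1, g2⟩ := f.jg_surj c c' (dia 2 h2')
    obtain ⟨b, hb⟩ := f.i₀.ex w wT
    have h3 : g * w * g⁻¹ * (w ^ 4)⁻¹ ∈ a.triv := by
      have h4 := ((g1.mul (c.u w wT b hb)).mul g1.inv).mul ((c.u w wT b hb).pow 4).inv
      rw [H3.conj_U_of_upper _ rfl, H3.U_pow, show dia 2 h2' 0 0 ^ 2 * b = (4 : ℕ) * b by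
        simp [dia_coe]; norm_num, mul_inv_cancel] at h4
      have h5 := mul_mem (mul_mem (mul_mem hg wP) (inv_mem hg)) (inv_mem (pow_mem wP 4))
      refine ⟨h5, fun m => ?_⟩
      obtain ⟨u, hu, rfl⟩ := S.surj m
      rw [← ha _ h5 u hu, ← sub_eq_zero, ← S.map_commutator (nW h5) hu,
        S.eq_zero _ (H8.commutatorElement_mem_of_normalizer (nW h5) hu)]
      exact cW (commutator_mem_commutator ((base.ker _ h5).mp h4) hu)
    have h4 : ∀ m, a.ρ w (a.ρ w (a.ρ w (a.ρ w (a.ρ g m)))) = a.ρ g (a.ρ w m) := fun m => by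
      rw [← a.conj hg wP, a.eq_of_triv (mul_mem (mul_mem hg wP) (inv_mem hg)) (pow_mem wP 4) h3,
        show w ^ 4 = w * (w * (w * w)) by simp only [pow_succ, pow_zero, one_mul, mul_assoc], a.mul' wP (mul_mem wP (mul_mem wP wP)),
        a.mul' wP (mul_mem wP wP), a.mul' wP wP]
    have gx : g * x * g⁻¹ ∈ W := (mem_normalizer_iff.mp (nW hg) x).mp xW
    have yW := mul_mem (pow_mem gx 2) (inv_mem xW)
    have y1 : (g * x * g⁻¹) ^ 2 * x⁻¹ ∈ pCoreOf p β := by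
      refine ((c'.memA _ (WQ yW)).mpr ?_).1
      rw [C'.map_mul _ (WQ (pow_mem gx 2)) _ (WQ (inv_mem xW)), C'.map_pow (WQ gx),
        C'.map_inv (WQ xW), g2.2 x (WQ xW)]
      simp [dia_coe, dotProduct, Fin.sum_univ_two, h2']
    have y2 := e0 _ yW
    have y3 := e0 _ (cm _ yW)
    rw [commutatorElement_eq_one_iff_mul_comm.mpr (v'.g.on.r.quad v'.g.on.sr
      (commutator_mem_commutator hw (v'.g.on.sl.pCoreOf_le y1)) w
      (v'.g.on.sr.pCoreOf_le (Zp_le γ hw))), S.map_one, add_zero] at y3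
    have y4 : S.π ((g * x * g⁻¹) ^ 2 * x⁻¹) = 2 • a.ρ g (S.π x) - S.π x := by
      rw [S.map_mul _ (pow_mem gx 2) _ (inv_mem xW), S.map_pow gx, S.map_inv xW, ha g hg x xW,
        sub_eq_add_neg]
    have r1 : a.ρ g (S.π ⁅w, ⁅w, x⁆⁆) = 2 • S.π ⁅w, ⁅w, x⁆⁆ := by
      have h5 := (mem_normalizer_iff.mp (nZp δ hg) _).mp hr.1
      rw [← ha g hg _ (ZW hr.1), ← S.map_pow (ZW hr.1), S.eq_iff (ZW h5) (ZW (pow_mem hr.1 2)),
        ← C.eq_iff h5 (pow_mem hr.1 2), C.map_pow hr.1, g1.2 _ hr.1]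
      ext i
      fin_cases i <;> simp [dia_coe, mulVec, dotProduct, Fin.sum_univ_two, (c.memA _ hr.1).mp hr]
    generalize S.π ⁅w, (g * x * g⁻¹) ^ 2 * x⁻¹⁆ = k at y2 y3
    rw [y4] at y2
    have h5 := h4 (S.π x)
    have h6 := h4 (S.π ⁅w, x⁆)
    rw [e1, map_add] at h5
    rw [e2, map_add, r1] at h6
    have y5 : 2 • a.ρ w (a.ρ g (S.π x)) = 2 • a.ρ g (S.π x) + S.π ⁅w, x⁆ + k := by
      rw [map_sub, map_nsmul, e1] at y2
      linear_combination (norm := abel) y2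
    have h7 : 2 • a.ρ g (S.π ⁅w, x⁆) = 4 • S.π ⁅w, x⁆ + 6 • S.π ⁅w, ⁅w, x⁆⁆ + 4 • k := by
      have := congrArg (2 • ·) h5
      simp only [← map_nsmul (a.ρ w)] at this
      simp only [y5, map_add, map_nsmul, e2, e3, y3] at this
      linear_combination (norm := abel) -this
    have h8 : 12 • S.π ⁅w, ⁅w, x⁆⁆ = 0 := by
      have := congrArg (2 • ·) h6
      simp only [← map_nsmul (a.ρ w), smul_add, h7] at this
      simp only [map_add, map_nsmul, e2, e3, y3] at this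
      linear_combination (norm := abel) this
    have h9 : p ∣ 12 := by
      by_contra hn
      have h10 := Nat.dvd_gcd (addOrderOf_dvd_of_nsmul_eq_zero p3) (addOrderOf_dvd_of_nsmul_eq_zero h8)
      rw [(Nat.Prime.coprime_iff_not_dvd Fact.out).mpr hn, Nat.dvd_one, AddMonoid.addOrderOf_eq_one_iff] at h10
      exact r0 h10
    have hp := (Fact.out : p.Prime)
    rcases (Nat.Prime.dvd_mul hp (m := 4) (n := 3)).mp h9 with h10 | h10
    · exact absurd ((Nat.prime_dvd_prime_iff_eq hp Nat.prime_two).mp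
        (hp.dvd_of_dvd_pow (n := 2) h10)) h2
    · exact (Nat.prime_dvd_prime_iff_eq hp Nat.prime_three).mp h10
  exact hp

theorem vx_small : Small p T₁ (centralizer (pResidualOf p δ : Set X)) := by
  have hp := vx_three d v v'
  obtain ⟨D, hD⟩ : ∃ D, D = pCoreOf p α ⊓ pCoreOf p δ ⊓ pCoreOf p β := ⟨_, rfl⟩
  have nD : δ ≤ normalizer (D : Set X) := hD ▸ vx_nD d v
  have Dδ : D ≤ pCoreOf p δ := hD ▸ inf_le_left.trans inf_le_right
  have Dβ : D ≤ pCoreOf p β := hD ▸ inf_le_right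
  have Dα : D ≤ pCoreOf p α := hD ▸ inf_le_left.trans inf_le_left
  have pT := v.o.sl.isPGroup
  have DT := Dδ.trans v.o.sl.pCoreOf_le
  have e1 : pCoreOf p γ ⊓ D ⊔ Zp p δ = D :=
    (sup_comm _ _).trans (vx_inf₀ d v' (Dβ.trans v'.g.on.sl.pCoreOf_le) (hD ▸ vx_ZD d v))
  have e2 : D ⊔ Zp p β = pCoreOf p δ ⊓ pCoreOf p β := by
    rw [sup_comm, hD, inf_assoc]
    exact vx_inf₀ d v (inf_le_left.trans v.g.on.sl.pCoreOf_le) (le_inf (d.adj v.o.symm) (Zp_le β))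
  have e3 := vx_inf₁ d v v.o.sl.pCoreOf_le (d.adj v.g.on.symm)
  have nF := H7.le_normalizer_frat nD
  have f1 : frat D ≤ centralizer (pResidualOf p δ : Set X) := by
    refine le_centralizer_iff.mp (v.o.l.residual_le v.o.sl (H7.le_normalizer_centralizer nF)
      (v'.crit d).zr ?_ (vx_nc d v'))
    rw [← e1, frat_sup_ea (e1.symm ▸ pT.to_le DT) (le_centralizer_iff.mp
      ((inf_le_right.trans Dδ).trans (Q_le_CZ δ))) (ea_Zp δ)]
    exact le_centralizer_iff.mp (((H7.frat_le _).trans inf_le_left).trans (Q_le_CZ γ))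
  have f2 : frat T₁ ≤ D ⊔ Zp p β :=
    (le_inf (v.o.l.frat_le_Q v.o.sl) (v.o.r.frat_le_Q v.o.sr)).trans e2.ge
  have f3 : D ⊔ Zp p β ≤ T₁ := e2.le.trans (inf_le_left.trans v.o.sl.pCoreOf_le)
  refine ⟨((frat_mono (pT.to_le f3) f2).trans (frat_sup_ea (pT.to_le f3) (le_centralizer_iff.mp
    (Dβ.trans (Q_le_CZ β))) (ea_Zp β)).le).trans f1, le_trans ?_ f1, fun h => absurd hp h,
    fun h => absurd hp h.ne'⟩
  have nT := v.o.sl.le.trans nF
  have nN := H7.le_normalizer_sup nT (le_normalizer_ctr (le_normalizer (H := T₁)))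
  have k : ∀ {μ ν}, On p μ T₁ ν → ⁅Zp p μ, T₁⁆ ≤ frat D ⊔ ctr T₁ := fun {μ ν} o =>
    le_sup_of_le_right (le_inf ((H7.commutator_le_left_of_le_normalizer o.nZ).trans
      ((Zp_le μ).trans o.sl.pCoreOf_le)) (o.l.quad o.sl))
  have k2 : ∀ μ, D ⊓ pCoreOf p γ ≤ pCoreOf p μ → ⁅pCoreOf p γ ⊓ D, Zp p μ⁆ ≤ frat D := fun μ h =>
    H7.commutator_le_of_le_centralizer (le_centralizer_iff.mp
      (((inf_comm _ _).le.trans h).trans (Q_le_CZ μ)))
  have f4 : ⁅pCoreOf p γ ⊓ D, T₁⁆ ≤ frat D := by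
    refine (commutator_mono le_rfl (vx_T₁ d v').ge).trans (H7.commutator_sup_le
      ((v'.crit d).zr.trans nT) (v.o.sl.pCoreOf_le.trans nT) (k2 γ inf_le_right)
      ((commutator_mono le_rfl e3.ge).trans (H7.commutator_sup_le ((v.crit d).zr.trans nT)
        ((inf_le_right.trans v.o.sl.pCoreOf_le).trans nT) (k2 α (inf_le_left.trans Dα)) ?_)))
    rw [inf_comm (pCoreOf p β), ← e2]
    exact H7.commutator_sup_le (DT.trans nT) ((le_sup_right.trans f3).trans nT)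
      ((commutator_mono inf_le_right le_rfl).trans (commutator_le_frat (pT.to_le DT)))
      (k2 β (inf_le_left.trans Dβ))
  have f5 : ⁅frat T₁, T₁⁆ ≤ frat D ⊔ ctr T₁ := (commutator_mono f2 le_rfl).trans
    (H7.sup_commutator_le (DT.trans nN) ((le_sup_right.trans f3).trans nN)
      ((commutator_mono e1.ge le_rfl).trans (H7.sup_commutator_le ((inf_le_right.trans DT).trans nN)
        (((Zp_le δ).trans v.o.sl.pCoreOf_le).trans nN) (f4.trans le_sup_left) (k v.o))) (k v.o.symm))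
  exact (commutator_mono f5 le_rfl).trans (H7.sup_commutator_le le_normalizer (inf_le_left.trans nT)
    (H7.commutator_le_left_of_le_normalizer nT)
    (H7.commutator_le_of_le_centralizer (le_centralizer_iff.mp inf_le_right)))

omit v v' in
theorem CD.not_two : False := by
  obtain ⟨δ, α, T₀, β, T₁, v⟩ := exists_vx d
  obtain ⟨γ, T₂, v'⟩ := vx_next d v
  exact v.o.l.ns T₁ v.o.sl (vx_small d v v')

omit v v' d in
theorem Z_le_Q {n : ℕ} (h : PNear p n δ β) : Zp p β ≤ pCoreOf p δ := by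
  classical
  by_contra hn
  have hex : ∃ n, ∃ δ μ : Subgroup X, PNear p n δ μ ∧ ¬ Zp p μ ≤ pCoreOf p δ := ⟨n, δ, β, h, hn⟩
  have d : CD X p (Nat.find hex) :=
    ⟨fun h1 h2 => by_contra fun h3 => Nat.find_min hex h2 ⟨_, _, h1.symm, h3⟩, Nat.find_spec hex⟩
  generalize Nat.find hex = b at d
  match b, d with
  | 0, d =>
    obtain ⟨δ, μ, h1, h2⟩ := d.ex
    exact h2 (h1.eq ▸ Zp_le δ)
  | 1, d => exact d.not_one
  | 2, d => exact d.not_two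
  | n + 3, d => exact d.not_three

end Cfsg.H9.GN
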